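/-
Real characters of degree prime to `p`: basic tools (namespace `Cfsg.Agent.RealDeg`).

* `elemGen p G` : the subgroup generated by the `p`-elements
* `Hyp p G` : `O^{p'}(G)` solvable and all real irreducible characters of degree prime to `p`
* `exists_real_nontriv` : real characters not trivial on `N`, from counting square roots
* `exists_real_of_two_elem` : a 2-element moving a normal subgroup of odd order gives one
-/
import Cfsg.Agent.Lib.FSInd.Basic
import Cfsg.Agent.Lib.CharApp.PermLemma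
import Cfsg.Agent.Lib.CharApp.Clifford
import Cfsg.Agent.Lib.CentralChar.Twist

set_option autoImplicit false
set_option linter.style.haveILetI false

namespace Cfsg.Agent.RealDeg

open Cfsg Cfsg.Agent.Char

/-- The subgroup generated by the `p`-elements. -/
abbrev elemGen (p : ℕ) (G : Type*) [Group G] : Subgroup G :=
  Subgroup.closure {g : G | ∃ k : ℕ, orderOf g = p ^ k}

/-- The hypothesis of the real-degree theorems. -/
structure Hyp (p : ℕ) (G : Type*) [Group G] : Prop where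
  solv : Group.IsSolvable (elemGen p G)
  real : ∀ χ : IrrCharacter G, (∀ g : G, ((χ : G → ℂ) g).im = 0) → ¬ p ∣ charDegree (χ : G → ℂ)

variable {G : Type*} [Group G] {p : ℕ}

theorem elemGen_normal : (elemGen p G).Normal := by
  refine ⟨fun x hx g => ?_⟩
  have h : elemGen p G ≤ (elemGen p G).comap (MulAut.conj g).toMonoidHom := by
    refine (Subgroup.closure_le _).mpr ?_
    rintro y ⟨k, hk⟩
    exact Subgroup.subset_closure ⟨k, ((MulAut.conj g).orderOf_eq y).trans hk⟩
  exact h hx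

theorem mem_elemGen [Fact p.Prime] {g : G} {k : ℕ} (h : g ^ p ^ k = 1) : g ∈ elemGen p G := by
  obtain ⟨j, -, hj⟩ := (Nat.dvd_prime_pow Fact.out).mp (orderOf_dvd_of_pow_eq_one h)
  exact Subgroup.subset_closure ⟨j, hj⟩

theorem le_elemGen [Fact p.Prime] {H : Subgroup G} (h : IsPGroup p H) : H ≤ elemGen p G := by
  intro g hg
  obtain ⟨k, hk⟩ := h ⟨g, hg⟩
  exact mem_elemGen (k := k) (congrArg Subtype.val hk)

theorem not_dvd_index_elemGen [Finite G] [Fact p.Prime] : ¬ p ∣ (elemGen p G).index := by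
  obtain ⟨P⟩ : Nonempty (Sylow p G) := inferInstance
  exact fun h => P.not_dvd_index (h.trans (Subgroup.index_dvd_of_le (le_elemGen P.2)))

theorem map_elemGen [Finite G] [Fact p.Prime] {H : Type*} [Group H] {f : G →* H}
    (hf : Function.Surjective f) : (elemGen p G).map f = elemGen p H := by
  refine le_antisymm ?_ ?_
  · rw [MonoidHom.map_closure, Subgroup.closure_le]
    rintro _ ⟨g, ⟨k, hk⟩, rfl⟩
    exact mem_elemGen (k := k) (by rw [← map_pow, ← hk, pow_orderOf_eq_one, map_one])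
  · refine (Subgroup.closure_le _).mpr ?_
    rintro h ⟨k, hk⟩
    haveI : Finite H := Finite.of_surjective f hf
    obtain ⟨S, hS⟩ := (IsPGroup.of_card (n := k)
      (show Nat.card (Subgroup.zpowers h) = p ^ k by rw [Nat.card_zpowers, hk])).exists_le_sylow
    obtain ⟨T, rfl⟩ := Sylow.mapSurjective_surjective hf p S
    exact Subgroup.map_mono (le_elemGen T.2) (hS (Subgroup.mem_zpowers h))

theorem elemGen_le_centralizer {S : Set G}
    (h : ∀ x : G, (∃ k : ℕ, orderOf x = p ^ k) → ∀ s ∈ S, s * x = x * s) :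
    elemGen p G ≤ Subgroup.centralizer S :=
  (Subgroup.closure_le _).mpr fun x hx => Subgroup.mem_centralizer_iff.mpr (h x hx)

theorem odd_index_two [Finite G] : Odd (elemGen 2 G).index := by
  haveI : Fact (Nat.Prime 2) := ⟨Nat.prime_two⟩
  exact Nat.not_even_iff_odd.mp fun h => not_dvd_index_elemGen (p := 2) (even_iff_two_dvd.mp h)

/-- A real element lies in the subgroup generated by the 2-elements. -/
theorem mem_elemGen_two_of_real [Finite G] {x : G} (hx : IsConj x x⁻¹) : x ∈ elemGen 2 G := by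
  haveI : (elemGen 2 G).Normal := elemGen_normal
  rw [← QuotientGroup.eq_one_iff]
  refine CharApp.eq_one_of_real_of_odd ?_ ?_
  · rw [← Subgroup.index_eq_card]; exact odd_index_two
  · have h := (QuotientGroup.mk' (elemGen 2 G)).map_isConj hx
    rwa [map_inv] at h

theorem Hyp.quotient [Finite G] [Fact p.Prime] (h : Hyp p G) (N : Subgroup G) [N.Normal] :
    Hyp p (G ⧸ N) := by
  have hs := QuotientGroup.mk'_surjective N
  refine ⟨?_, fun ψ hψ hd => ?_⟩
  · have := h.solv
    rw [← map_elemGen hs]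
    exact Group.isSolvable_of_surjective ((QuotientGroup.mk' N).subgroupMap_surjective _)
  · refine h.real ⟨fun g => (ψ : G ⧸ N → ℂ) (QuotientGroup.mk' N g),
      IsIrrCharacter.comp_surjective ψ.2 _ hs⟩ (fun g => hψ _) ?_
    show p ∣ charDegree (fun g : G => (ψ : G ⧸ N → ℂ) (QuotientGroup.mk' N g))
    simpa only [charDegree, map_one] using hd

theorem fsInd_inflation [Fintype G] (N : Subgroup G) [N.Normal] [Fintype (G ⧸ N)]
    (ψ : G ⧸ N → ℂ) : FSInd.fsInd (fun g : G => ψ g) = FSInd.fsInd ψ := by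
  classical
  haveI := Fintype.ofFinite N
  have h1 : ∑ s : G, ψ ((s * s : G) : G ⧸ N) = (Nat.card N : ℂ) * ∑ q : G ⧸ N, ψ (q * q) := by
    rw [Fintype.sum_equiv Subgroup.groupEquivQuotientProdSubgroup (fun s : G => ψ ((s * s : G) : G ⧸ N))
      (fun x : (G ⧸ N) × N => ψ (x.1 * x.1)) fun s => rfl, Fintype.sum_prod_type, Finset.mul_sum]
    refine Finset.sum_congr rfl fun q _ => ?_
    show ∑ _y : N, ψ (q * q) = _
    rw [Finset.sum_const, Finset.card_univ, ← Nat.card_eq_fintype_card, nsmul_eq_mul]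
  simp only [FSInd.fsInd, h1]
  rw [N.card_eq_card_quotient_mul_card_subgroup, Nat.cast_mul]
  have hN : (Nat.card N : ℂ) ≠ 0 := Nat.cast_ne_zero.mpr Nat.card_pos.ne'
  field_simp

/-- If every square root of `g` modulo `N` lifts and one lifts twice, some real character is not
trivial on `N`. -/
theorem exists_real_nontriv [Finite G] (N : Subgroup G) [N.Normal] (g : G)
    (hlift : ∀ y : G, (y * y)⁻¹ * g ∈ N → ∃ z, y⁻¹ * z ∈ N ∧ z * z = g)
    (htwo : ∃ z z' : G, z ≠ z' ∧ z⁻¹ * z' ∈ N ∧ z * z = g ∧ z' * z' = g) :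
    ∃ χ : IrrCharacter G, (∀ x : G, ((χ : G → ℂ) x).im = 0) ∧
      ¬ CharApp.TrivOn N (χ : G → ℂ) := by
  classical
  by_contra hno
  push Not at hno
  haveI := Fintype.ofFinite G
  haveI := Fintype.ofFinite (G ⧸ N)
  haveI := Fintype.ofFinite (IrrCharacter G)
  haveI := Fintype.ofFinite (IrrCharacter (G ⧸ N))
  let e : IrrCharacter (G ⧸ N) → IrrCharacter G := fun ψ =>
    ⟨fun x => (ψ : G ⧸ N → ℂ) (QuotientGroup.mk' N x),
      IsIrrCharacter.comp_surjective ψ.2 _ (QuotientGroup.mk'_surjective N)⟩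
  have he : Function.Injective e := fun a b h => Subtype.ext (funext fun q => by
    obtain ⟨x, rfl⟩ := QuotientGroup.mk'_surjective N q
    exact congrFun (congrArg Subtype.val h) x)
  have hsum : (Nat.card {q : G ⧸ N // q * q = (g : G ⧸ N)} : ℂ) =
      (Nat.card {s : G // s * s = g} : ℂ) := by
    rw [FSInd.card_sqrt_eq_sum, FSInd.card_sqrt_eq_sum]
    refine Fintype.sum_of_injective e he _ _ (fun χ hχ => ?_) fun ψ => ?_
    · rw [mul_eq_zero]
      left
      by_contra h0
      obtain ⟨ψ, hψ⟩ := CentralChar.exists_deflation N χ fun n hn =>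
        hno χ (FSInd.real_of_fsInd_ne_zero χ.2 h0) ⟨n, hn⟩
      exact hχ ⟨ψ, Subtype.ext (funext fun x => (hψ x).symm)⟩
    · show _ = FSInd.fsInd (fun x : G => (ψ : G ⧸ N → ℂ) (x : G ⧸ N)) * (ψ : G ⧸ N → ℂ) (g : G ⧸ N)
      rw [fsInd_inflation]
  let r : {s : G // s * s = g} → {q : G ⧸ N // q * q = (g : G ⧸ N)} := fun s =>
    ⟨(s.1 : G ⧸ N), by rw [← QuotientGroup.mk_mul, s.2]⟩
  have hr : Function.Surjective r := by
    rintro ⟨q, hq⟩
    obtain ⟨y, rfl⟩ := QuotientGroup.mk'_surjective N q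
    obtain ⟨z, hz, hzg⟩ := hlift y (QuotientGroup.eq.mp hq)
    exact ⟨⟨z, hzg⟩, Subtype.ext (QuotientGroup.eq.mpr hz).symm⟩
  obtain ⟨z, z', hne, hzz, hz, hz'⟩ := htwo
  have hbij := (Nat.bijective_iff_surjective_and_card r).mpr ⟨hr, (Nat.cast_injective hsum).symm⟩
  exact hne (congrArg Subtype.val
    (hbij.1 (a₁ := ⟨z, hz⟩) (a₂ := ⟨z', hz'⟩) (Subtype.ext (QuotientGroup.eq.mpr hzz))))

/-- A `2`-element whose square centralizes `N` and which does not. -/
theorem exists_square_centralizing (N : Subgroup G) : ∀ (k : ℕ) (x : G), x ^ 2 ^ k = 1 →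
    x ∉ Subgroup.centralizer (N : Set G) →
    ∃ (y : G) (j : ℕ), y ^ 2 ^ (j + 1) = 1 ∧ y * y ∈ Subgroup.centralizer (N : Set G) ∧
      y ∉ Subgroup.centralizer (N : Set G) := by
  intro k
  induction k with
  | zero =>
    intro x hx h
    rw [pow_zero, pow_one] at hx
    exact absurd (hx ▸ one_mem _) h
  | succ k ih =>
    intro x hx h
    by_cases h2 : x * x ∈ Subgroup.centralizer (N : Set G)
    · exact ⟨x, k, hx, h2, h⟩
    · exact ih (x * x) (by rw [← pow_two, ← pow_mul, ← pow_succ']; exact hx) h2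

/-- A 2-element not centralizing a normal subgroup of odd order yields a real character not trivial
on it. -/
theorem exists_real_of_two_elem [Finite G] (N : Subgroup G) [hN : N.Normal]
    (hodd : Odd (Nat.card N)) {x : G} (hx : ∃ k : ℕ, orderOf x = 2 ^ k)
    (hxN : x ∉ Subgroup.centralizer (N : Set G)) :
    ∃ χ : IrrCharacter G, (∀ g : G, ((χ : G → ℂ) g).im = 0) ∧
      ¬ CharApp.TrivOn N (χ : G → ℂ) := by
  obtain ⟨k, hk⟩ := hx
  obtain ⟨t, j, ht, ht2, htN⟩ :=
    exists_square_centralizing N k x (by rw [← hk, pow_orderOf_eq_one]) hxN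
  have hc := Subgroup.mem_centralizer_iff.mp ht2
  have htwo : ∀ n : N, n ^ 2 ^ j = 1 → n = 1 := fun n hn =>
    orderOf_eq_one_iff.mp (Nat.eq_one_of_dvd_coprimes
      ((Nat.coprime_two_left.mpr hodd).pow_left j) (orderOf_dvd_of_pow_eq_one hn) (orderOf_dvd_natCard n))
  refine exists_real_nontriv N (t * t) (fun y hy => ?_) ?_
  · have hu : y ^ 2 ^ (j + 1) ∈ N := by
      rw [← QuotientGroup.eq_one_iff, QuotientGroup.mk_pow, pow_succ', pow_mul, pow_two,
        ← QuotientGroup.mk_mul, QuotientGroup.eq.mpr hy, ← QuotientGroup.mk_pow, ← pow_two, ← pow_mul,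
        ← pow_succ', ht, QuotientGroup.mk_one]
    have hcop : Nat.Coprime (2 ^ (j + 1)) (Nat.card N) := (Nat.coprime_two_left.mpr hodd).pow_left _
    obtain ⟨m, hm1, hm2⟩ := Nat.chineseRemainder hcop 1 0
    obtain ⟨c, hc'⟩ := Nat.modEq_zero_iff_dvd.mp hm2
    have hz1 : (y ^ m) ^ 2 ^ (j + 1) = 1 := by
      rw [← pow_mul, mul_comm, pow_mul, hc', pow_mul]
      rw [show (y ^ 2 ^ (j + 1)) ^ Nat.card N = 1 from congrArg Subtype.val
        (pow_card_eq_one' (x := (⟨_, hu⟩ : N))), one_pow]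
    have hzy : y⁻¹ * y ^ m ∈ N := by
      rw [← QuotientGroup.eq, QuotientGroup.mk_pow]
      have h1 : ((y : G ⧸ N)) ^ 2 ^ (j + 1) = 1 := by
        rw [← QuotientGroup.mk_pow]; exact (QuotientGroup.eq_one_iff _).mpr hu
      conv_lhs => rw [← pow_one (y : G ⧸ N)]
      exact pow_eq_pow_iff_modEq.mpr (Nat.ModEq.of_dvd (orderOf_dvd_of_pow_eq_one h1) hm1.symm)
    refine ⟨y ^ m, hzy, ?_⟩
    have hn : (t * t)⁻¹ * (y ^ m * y ^ m) ∈ N := by
      rw [← QuotientGroup.eq, QuotientGroup.mk_mul _ (y ^ m), ← QuotientGroup.eq.mpr hzy,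
        ← QuotientGroup.mk_mul]
      exact (QuotientGroup.eq.mpr hy).symm
    have hcomm : Commute (t * t) ((t * t)⁻¹ * (y ^ m * y ^ m)) := (hc _ hn).symm
    have h1 : ((t * t)⁻¹ * (y ^ m * y ^ m)) ^ 2 ^ j = 1 := by
      have e1 : ((t * t) * ((t * t)⁻¹ * (y ^ m * y ^ m))) ^ 2 ^ j = 1 := by
        rw [mul_inv_cancel_left, ← pow_two, ← pow_mul (y ^ m), ← pow_succ', hz1]
      rwa [hcomm.mul_pow, ← pow_two, ← pow_mul, ← pow_succ', ht, one_mul, pow_two] at e1
    have h2 := congrArg Subtype.val (htwo ⟨_, hn⟩ (Subtype.ext h1))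
    exact (inv_mul_eq_one.mp h2).symm
  · obtain ⟨n0, hn0, hne⟩ : ∃ n ∈ N, n * t ≠ t * n := by
      by_contra hall
      push Not at hall
      exact htN (Subgroup.mem_centralizer_iff.mpr hall)
    refine ⟨t, t * (n0⁻¹ * (t * n0 * t⁻¹)), fun h => hne ?_, ?_, rfl, ?_⟩
    · have h1 := inv_mul_eq_one.mp (mul_eq_left.mp h.symm)
      calc n0 * t = t * n0 * t⁻¹ * t := by rw [← h1]
        _ = t * n0 := inv_mul_cancel_right _ _
    · rw [inv_mul_cancel_left]
      exact N.mul_mem (N.inv_mem hn0) (hN.conj_mem n0 hn0 t)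
    · have h1 : n0⁻¹ * (t * t) * n0 = t * t := by
        rw [mul_assoc, ← hc n0 hn0, inv_mul_cancel_left]
      calc t * (n0⁻¹ * (t * n0 * t⁻¹)) * (t * (n0⁻¹ * (t * n0 * t⁻¹)))
          = t * (n0⁻¹ * t * (n0 * n0⁻¹) * t * n0) * t⁻¹ := by group
        _ = t * (n0⁻¹ * (t * t) * n0) * t⁻¹ := by rw [mul_inv_cancel, mul_one]; group
        _ = t * t := by rw [h1]; group

end Cfsg.Agent.RealDeg
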