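/-
Real characters of degree prime to `p`: normal Sylow subgroups (namespace `Cfsg.Agent.RealDeg`).

* `not_dvd_relIndex_pCore` : if `U ⊴ G` contains `O^{2'}(G)` with index a power of `p`, then
  `U` has a normal Sylow `p`-subgroup
* `sylow_normal` : the same for a Sylow subgroup of `U`
-/
import Cfsg.Agent.Lib.RealDeg.Basic
import Cfsg.Agent.Lib.Solvable.Basic
import Cfsg.Agent.Lib.PReduced.Basic
import Cfsg.Agent.Lib.Blocks.Defect
import Cfsg.Agent.Lib.Char.Linear
import Cfsg.Agent.Lib.Cores.Basic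

set_option autoImplicit false
set_option linter.style.haveILetI false

namespace Cfsg.Agent.RealDeg

open Cfsg Cfsg.Agent.Char

universe u

variable {p : ℕ}

theorem relIndex_map_dvd {G H : Type*} [Group G] [Group H] (f : G →* H) (K U : Subgroup G) [K.Normal]
    (hKU : K ≤ U) : (K.map f).relIndex (U.map f) ∣ K.relIndex U := by
  haveI : (K ⊔ f.ker).Normal := inferInstance
  rw [Subgroup.relIndex_map_map,
    show U ⊔ f.ker = U ⊔ (K ⊔ f.ker) by rw [← sup_assoc, sup_of_le_left hKU],
    Subgroup.relIndex_sup_right]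
  exact Subgroup.relIndex_dvd_of_le_left U le_sup_left

theorem dvd_degree_of_not_fixed {G : Type*} [Group G] [Finite G] (N L : Subgroup G) [N.Normal]
    [L.Normal] [Fintype N] [Fact p.Prime] {b : ℕ} (hb : N.relIndex L = p ^ b) (χ : IrrCharacter G)
    {θ : N → ℂ} (hθ : IsIrrCharacter N θ)
    (hover : classInner (fun n : N => (χ : G → ℂ) n) θ ≠ 0) (hL : ¬ L ≤ CharApp.inertia N θ) :
    p ∣ charDegree (χ : G → ℂ) := by
  haveI := Fintype.ofFinite G
  have hne : (CharApp.inertia N θ).relIndex L ≠ 1 := fun h => hL (Subgroup.relIndex_eq_one.mp h)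
  obtain ⟨c, -, hc⟩ := (Nat.dvd_prime_pow Fact.out).mp (hb ▸
    Subgroup.relIndex_dvd_of_le_left L (CharApp.le_inertia N (IsIrrCharacter.isClassFunction hθ)))
  have hpT : p ∣ (CharApp.inertia N θ).index := by
    refine dvd_trans ?_ (PReduced.relIndex_dvd_index_of_right_normal _ L)
    rcases Nat.eq_zero_or_pos c with rfl | hc0
    · exact absurd (hc.trans (pow_zero p)) hne
    · rw [hc]; exact dvd_pow_self p hc0.ne'
  obtain ⟨a, ha⟩ := IsCharacter.classInner_nat
    (IsCharacter.restrict (IsIrrCharacter.isCharacter χ.2) N) (IsIrrCharacter.isCharacter hθ)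
  obtain ⟨d, -, hd⟩ := IsIrrCharacter.exists_degree hθ
  have h1 := CharApp.restrict_degree N χ.2 hθ hover
  rw [ha, hd, ← Blocks.charDegree_cast χ] at h1
  have h2 : charDegree (χ : G → ℂ) = a * (CharApp.inertia N θ).index * d := by exact_mod_cast h1
  rw [h2]
  exact dvd_mul_of_dvd_left (dvd_mul_of_dvd_right hpT _) _

theorem not_dvd_relIndex_pCore_aux [hp : Fact p.Prime] (n : ℕ) :
    ∀ (G : Type u) [Group G] [Finite G], Nat.card G ≤ n → Hyp p G →
    ∀ (U : Subgroup G) [U.Normal], elemGen 2 G ≤ U →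
      (∃ a, (elemGen 2 G).relIndex U = p ^ a) → ¬ p ∣ (pCore p G).relIndex U := by
  haveI : Fact (Nat.Prime 2) := ⟨Nat.prime_two⟩
  induction n with
  | zero => intro G _ _ hn; exact absurd hn (Nat.card_pos (α := G)).not_ge
  | succ n ih =>
    intro G _ _ hn hyp U _ hKU hUa hdvd
    obtain ⟨a, ha⟩ := hUa
    set K := elemGen 2 G with hK
    haveI : K.Normal := elemGen_normal
    have hquot : ∀ (N : Subgroup G) [N.Normal], N ≠ ⊥ →
        ¬ p ∣ (pCore p (G ⧸ N)).relIndex (U.map (QuotientGroup.mk' N)) := by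
      intro N _ hN
      have hs := QuotientGroup.mk'_surjective N
      haveI : (U.map (QuotientGroup.mk' N)).Normal := Subgroup.Normal.map inferInstance _ hs
      refine ih (G ⧸ N) ?_ (hyp.quotient N) _ ?_ ?_
      · have : Nat.card (G ⧸ N) < Nat.card G := by
          rw [← Subgroup.index_eq_card, ← N.card_mul_index]
          exact lt_mul_of_one_lt_left (Nat.pos_of_ne_zero Subgroup.index_ne_zero_of_finite)
            (N.one_lt_card_iff_ne_bot.mpr hN)
        omega
      · rw [← map_elemGen hs]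
        exact Subgroup.map_mono hKU
      · rw [← map_elemGen hs]
        obtain ⟨b, -, hb⟩ := (Nat.dvd_prime_pow hp.out).mp
          (ha ▸ relIndex_map_dvd (QuotientGroup.mk' N) K U hKU)
        exact ⟨b, hb⟩
    by_cases hO : pCore p G = ⊥
    swap
    · have h := hquot _ hO
      rw [Cores.pCore_quotient_self, Subgroup.relIndex_bot_left] at h
      refine h ?_
      rw [← Subgroup.relIndex_ker, QuotientGroup.ker_mk']
      exact hdvd
    rw [hO, Subgroup.relIndex_bot_left] at hdvd
    have hU0 : U ≠ ⊥ := fun h => by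
      rw [h, Subgroup.card_bot, Nat.dvd_one] at hdvd
      exact hp.out.ne_one hdvd
    obtain ⟨N, hNn, hN0, hNU, hmin⟩ := Solvable.exists_minimal_normal hU0
    set W := elemGen p G with hW
    haveI : W.Normal := elemGen_normal
    haveI := hyp.solv
    have hsolvN : N ≤ W → IsMulCommutative N ∧ ∃ q : ℕ, q.Prime ∧ IsPGroup q N ∧ ∀ x ∈ N, x ^ q = 1 :=
      fun h => by
        haveI : Group.IsSolvable N := Solvable.isSolvable_of_le h
        exact Solvable.elementaryAbelian_of_minimal_normal N hN0 hmin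
    have hNW' : N ⊓ W ≠ ⊥ → N ≤ W := fun h =>
      ((hmin (N ⊓ W) inferInstance inf_le_left).resolve_left h) ▸ inf_le_right
    have hpN : ¬ p ∣ Nat.card N := by
      intro h
      obtain ⟨x, hx⟩ := exists_prime_orderOf_dvd_card' p h
      have hxW : (x : G) ∈ W :=
        mem_elemGen (k := 1) (by rw [pow_one, ← hx, ← Subgroup.orderOf_coe, pow_orderOf_eq_one])
      obtain ⟨-, q, hq, hqN, hexp⟩ := hsolvN (hNW' fun h0 => hp.out.ne_one (by
        have : (x : G) ∈ N ⊓ W := ⟨x.2, hxW⟩
        rw [h0, Subgroup.mem_bot, OneMemClass.coe_eq_one] at this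
        rw [← hx, this, orderOf_one]))
      have hqp : q = p := ((Nat.prime_dvd_prime_iff_eq hp.out hq).mp (by
        rw [← hx, ← Subgroup.orderOf_coe]
        exact orderOf_dvd_of_pow_eq_one (hexp _ x.2))).symm
      exact hN0 (le_bot_iff.mp (hO ▸ PReduced.le_pCore hNn (hqp ▸ hqN)))
    have h := hquot N hN0
    set f := QuotientGroup.mk' N with hf
    haveI : (pCore p (G ⧸ N)).Normal := PReduced.pCore_normal p _
    set L := (pCore p (G ⧸ N)).comap f ⊓ U with hL
    have hNL : N ≤ L := le_inf (fun x hx => by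
      rw [Subgroup.mem_comap, hf, QuotientGroup.mk'_apply, (QuotientGroup.eq_one_iff x).mpr hx]
      exact one_mem _) hNU
    have hLU : ¬ p ∣ L.relIndex U := by
      rwa [hL, Subgroup.inf_relIndex_right, Subgroup.relIndex_comap]
    obtain ⟨b, hb⟩ : ∃ b, N.relIndex L = p ^ b := by
      obtain ⟨b, hb⟩ := IsPGroup.iff_card.mp ((PReduced.isPGroup_pCore (G := G ⧸ N) p).to_le
        (show L.map f ≤ pCore p (G ⧸ N) from Subgroup.map_le_iff_le_comap.mpr inf_le_left))
      exact ⟨b, by rw [← hb, ← Subgroup.relIndex_ker, hf, QuotientGroup.ker_mk']⟩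
    have hcardL : Nat.card L = Nat.card N * p ^ b := by
      rw [← hb, ← Subgroup.relIndex_bot_left, ← Subgroup.relIndex_bot_left N,
        Subgroup.relIndex_mul_relIndex _ _ _ bot_le hNL]
    obtain ⟨S⟩ : Nonempty (Sylow p L) := inferInstance
    set R := (S : Subgroup L).map L.subtype with hR
    have hRL : R ≤ L := Subgroup.map_subtype_le _
    have hRp : IsPGroup p R := S.2.map _
    have hcardR : Nat.card R = p ^ b := by
      rw [hR, Subgroup.card_map_of_injective L.subtype_injective, S.card_eq_multiplicity, hcardL,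
        Nat.factorization_mul Nat.card_pos.ne' (pow_ne_zero _ hp.out.ne_zero), Finsupp.add_apply,
        Nat.factorization_eq_zero_of_not_dvd hpN, zero_add, Nat.Prime.factorization_pow hp.out,
        Finsupp.single_eq_same]
    have hRN : R ⊓ N = ⊥ := Solvable.inf_eq_bot_of_coprime
      (hcardR ▸ (hp.out.coprime_iff_not_dvd.mpr hpN).pow_left b)
    have hLsup : L ≤ R ⊔ N := (Subgroup.eq_of_le_of_card_ge (sup_le hRL hNL)
      (by rw [Solvable.card_sup_of_disjoint R N hRN, hcardR, hcardL, mul_comm])).ge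
    set H := Subgroup.normalizer (R : Set G) with hH
    have hHN : H ⊔ N = ⊤ := by
      refine top_le_iff.mp (le_of_eq_of_le (Sylow.normalizer_sup_eq_top S).symm (sup_le le_sup_left ?_))
      exact hLsup.trans (sup_le_sup_right Subgroup.le_normalizer _)
    have hnorm : ∀ X : Subgroup G, (∀ g ∈ H, ∀ x ∈ X, g * x * g⁻¹ ∈ X) →
        (∀ g ∈ N, ∀ x ∈ X, g * x * g⁻¹ ∈ X) → X.Normal := by
      intro X h1 h2
      refine ⟨fun x hx g => ?_⟩
      obtain ⟨c, hc, n, hn, rfl⟩ :=
        Subgroup.mem_sup_of_normal_right.mp (hHN ▸ Subgroup.mem_top g : g ∈ H ⊔ N)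
      rw [show c * n * x * (c * n)⁻¹ = c * (n * x * n⁻¹) * c⁻¹ by group]
      exact h1 c hc _ (h2 n hn x hx)
    have hRnorm : ∀ g ∈ H, ∀ x ∈ R, g * x * g⁻¹ ∈ R :=
      fun g hg x hx => (Subgroup.mem_normalizer_iff.mp hg x).mp hx
    have hR0 : R ≠ ⊥ := by
      intro h0
      rw [h0, Subgroup.card_bot] at hcardR
      have hUc : Nat.card L * L.relIndex U = Nat.card U := by
        rw [← Subgroup.relIndex_bot_left, ← Subgroup.relIndex_bot_left U,
          Subgroup.relIndex_mul_relIndex _ _ _ bot_le inf_le_right]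
      rw [← hUc, hcardL, ← hcardR, mul_one] at hdvd
      exact (hp.out.dvd_mul.mp hdvd).elim hpN hLU
    have hnc : ¬ ∀ r ∈ R, ∀ x ∈ N, r * x = x * r := by
      intro hc
      have hRn : R.Normal := hnorm R hRnorm fun g hg x hx => by
        rw [← hc x hx g hg, mul_inv_cancel_right]; exact hx
      exact hR0 (le_bot_iff.mp (hO ▸ PReduced.le_pCore hRn hRp))
    have hNW : N ≤ W := by
      by_contra h'
      have h0 : N ⊓ W = ⊥ := not_imp_comm.mp hNW' h'
      refine hnc fun r hr x hx => ?_
      have hrW : r ∈ W := le_elemGen hRp hr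
      have h1 : r * x * r⁻¹ * x⁻¹ ∈ N ⊓ W := ⟨N.mul_mem (hNn.conj_mem x hx r) (N.inv_mem hx), by
        rw [show r * x * r⁻¹ * x⁻¹ = r * (x * r⁻¹ * x⁻¹) by group]
        exact W.mul_mem hrW ((inferInstance : W.Normal).conj_mem _ (W.inv_mem hrW) x)⟩
      rw [h0, Subgroup.mem_bot, mul_inv_eq_one, mul_inv_eq_iff_eq_mul] at h1
      exact h1
    obtain ⟨hNcomm, q, hq, hqN, hexp⟩ := hsolvN hNW
    haveI := hNcomm
    have hab : ∀ x ∈ N, ∀ y ∈ N, x * y = y * x := fun x hx y hy =>
      PReduced.commute_of_isMulCommutative hNcomm hx hy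
    have hHN0 : H ⊓ N = ⊥ := by
      have hCn : (H ⊓ N).Normal := hnorm _
        (fun g hg x hx => ⟨H.mul_mem (H.mul_mem hg hx.1) (H.inv_mem hg), hNn.conj_mem x hx.2 g⟩)
        (fun g hg x hx => by rw [hab g hg x hx.2, mul_inv_cancel_right]; exact hx)
      refine (hmin _ hCn inf_le_right).resolve_right fun h0 => hnc fun r hr x hx => ?_
      have hxH : x ∈ H := (h0.ge hx).1
      have h1 : r * x * r⁻¹ * x⁻¹ ∈ R ⊓ N := ⟨by
        rw [show r * x * r⁻¹ * x⁻¹ = r * (x * r⁻¹ * x⁻¹) by group]
        exact R.mul_mem hr (hRnorm x hxH _ (R.inv_mem hr)),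
        N.mul_mem (hNn.conj_mem x hx r) (N.inv_mem hx)⟩
      rw [hRN, Subgroup.mem_bot, mul_inv_eq_one, mul_inv_eq_iff_eq_mul] at h1
      exact h1
    obtain ⟨χ, hχr, hχN⟩ : ∃ χ : IrrCharacter G, (∀ g : G, ((χ : G → ℂ) g).im = 0) ∧
        ¬ CharApp.TrivOn N (χ : G → ℂ) := by
      rcases eq_or_ne q 2 with rfl | hq2
      · refine exists_real_nontriv N 1 (fun y hy => ?_) ?_
        · obtain ⟨c, hc, n, hn, rfl⟩ :=
            Subgroup.mem_sup_of_normal_right.mp (hHN ▸ Subgroup.mem_top y : y ∈ H ⊔ N)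
          refine ⟨c, ?_, ?_⟩
          · rw [show (c * n)⁻¹ * c = n⁻¹ by group]; exact N.inv_mem hn
          · have h2 : c * c ∈ H ⊓ N := ⟨H.mul_mem hc hc, by
              rw [mul_one, inv_mem_iff, show c * n * (c * n) = c * c * (c⁻¹ * n * c * n) by group] at hy
              have h4 : c⁻¹ * n * c * n ∈ N := N.mul_mem (by simpa using hNn.conj_mem n hn c⁻¹) hn
              have h5 := N.mul_mem hy (N.inv_mem h4)
              rwa [mul_inv_cancel_right] at h5⟩
            rwa [hHN0, Subgroup.mem_bot] at h2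
        · obtain ⟨m, hm, hm1⟩ := N.bot_or_exists_ne_one.resolve_left hN0
          exact ⟨1, m, Ne.symm hm1, by simpa using hm, mul_one 1, by rw [← pow_two]; exact hexp m hm⟩
      · have hodd : Odd (Nat.card N) := by
          haveI : Fact q.Prime := ⟨hq⟩
          obtain ⟨c, hc⟩ := IsPGroup.iff_card.mp hqN
          rw [hc]; exact (hq.odd_of_ne_two hq2).pow
        by_contra hno
        have hKN : ∀ x ∈ N, ∀ k ∈ K, x * k = k * x := fun x hx k hk =>
          Subgroup.mem_centralizer_iff.mp (elemGen_le_centralizer (p := 2) (S := (N : Set G))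
            (fun y hy s hs => by
              by_contra hne
              exact hno (exists_real_of_two_elem N hodd hy
                fun hc => hne (Subgroup.mem_centralizer_iff.mp hc s hs))) hk) x hx
        have hNK : N ≤ K := by
          refine Subgroup.relIndex_eq_one.mp (Nat.eq_one_of_dvd_coprimes
            ((hp.out.coprime_iff_not_dvd.mpr hpN).pow_left a) ?_ (Subgroup.relIndex_dvd_card K N))
          rw [← ha, ← QuotientGroup.ker_mk' K, Subgroup.relIndex_ker, Subgroup.relIndex_ker]
          exact Subgroup.card_dvd_of_le (Subgroup.map_mono hNU)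
        have hRK : R ⊓ K = ⊥ := by
          have : (R ⊓ K).Normal := hnorm _
            (fun g hg x hx => ⟨hRnorm g hg x hx.1, (inferInstance : K.Normal).conj_mem x hx.2 g⟩)
            (fun g hg x hx => by rw [hKN g hg x hx.2, mul_inv_cancel_right]; exact hx)
          exact le_bot_iff.mp (hO ▸ PReduced.le_pCore this (hRp.to_le inf_le_left))
        have hKR : K ≤ Subgroup.centralizer (R : Set G) := by
          refine elemGen_le_centralizer fun k hk r hr => ?_
          obtain ⟨j, hj⟩ := hk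
          have hkK : k ∈ K := Subgroup.subset_closure ⟨j, hj⟩
          have hcK : k * r * k⁻¹ * r⁻¹ ∈ K := by
            rw [show k * r * k⁻¹ * r⁻¹ = k * (r * k⁻¹ * r⁻¹) by group]
            exact K.mul_mem hkK ((inferInstance : K.Normal).conj_mem _ (K.inv_mem hkK) r)
          have hcL : k * r * k⁻¹ * r⁻¹ ∈ L :=
            L.mul_mem ((inferInstance : L.Normal).conj_mem r (hRL hr) k) (L.inv_mem (hRL hr))
          set c := k * r * k⁻¹ * r⁻¹ with hc
          have hcN : c ∈ N := by
            obtain ⟨r', hr', n', hn', he⟩ := Subgroup.mem_sup_of_normal_right.mp (hLsup hcL)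
            have hr'1 : r' ∈ R ⊓ K := ⟨hr', by
              have := K.mul_mem hcK (K.inv_mem (hNK hn'))
              rwa [← he, mul_inv_cancel_right] at this⟩
            rw [hRK, Subgroup.mem_bot] at hr'1
            rw [← he, hr'1, one_mul]; exact hn'
          have hck : Commute k c := (hKN c hcN k hkK).symm
          have hit : ∀ i : ℕ, k ^ i * r * (k ^ i)⁻¹ = c ^ i * r := by
            intro i
            induction i with
            | zero => simp
            | succ i ihh =>
              calc k ^ (i + 1) * r * (k ^ (i + 1))⁻¹ = k * (k ^ i * r * (k ^ i)⁻¹) * k⁻¹ := by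
                    rw [pow_succ']; group
                _ = (k * c ^ i) * r * k⁻¹ := by rw [ihh]; group
                _ = (c ^ i * k) * r * k⁻¹ := by rw [(hck.pow_right i).eq]
                _ = c ^ (i + 1) * r := by rw [pow_succ, hc]; group
          have h1 := hit (2 ^ j)
          rw [show k ^ 2 ^ j = 1 by rw [← hj, pow_orderOf_eq_one], inv_one, one_mul, mul_one,
            eq_comm, mul_eq_right] at h1
          have h2 : c = 1 := orderOf_eq_one_iff.mp (Nat.eq_one_of_dvd_coprimes
            ((Nat.coprime_two_left.mpr hodd).pow_left j) (orderOf_dvd_of_pow_eq_one h1)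
            (Subgroup.orderOf_dvd_natCard N hcN))
          rw [hc, mul_inv_eq_one, mul_inv_eq_iff_eq_mul] at h2
          exact h2.symm
        exact hnc fun r hr x hx => Subgroup.mem_centralizer_iff.mp (hKR (hNK hx)) r hr
    -- its degree is divisible by `p`
    haveI := Fintype.ofFinite G
    haveI := Fintype.ofFinite N
    obtain ⟨θ, hθ⟩ := CharApp.exists_constituent
      (IsCharacter.restrict (IsIrrCharacter.isCharacter χ.2) N)
      (by simpa using IsIrrCharacter.apply_one_ne_zero χ.2)
    refine hyp.real χ hχr (dvd_degree_of_not_fixed N L hb χ θ.2 hθ fun hLT => ?_)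
    have hθ1 : (θ : N → ℂ) 1 = 1 := apply_one_eq_one_of_comm (fun x y => Subtype.ext (hab x x.2 y y.2)) θ
    obtain ⟨l, hl⟩ := exists_hom_of_degree_one (IsIrrCharacter.isCharacter θ.2) hθ1
    rcases hmin (l.ker.map N.subtype).normalCore inferInstance
      ((Subgroup.normalCore_le _).trans (Subgroup.map_subtype_le _)) with h0 | h0
    · refine hnc fun r hr x hx => ?_
      have h1 : r * x * r⁻¹ * x⁻¹ ∈ (l.ker.map N.subtype).normalCore := by
        intro g
        obtain ⟨c, hc, n, hn, rfl⟩ :=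
          Subgroup.mem_sup_of_normal_right.mp (hHN ▸ Subgroup.mem_top g : g ∈ H ⊔ N)
        have hxN : r * x * r⁻¹ * x⁻¹ ∈ N := N.mul_mem (hNn.conj_mem x hx r) (N.inv_mem hx)
        rw [show c * n * (r * x * r⁻¹ * x⁻¹) * (c * n)⁻¹ =
          c * (n * (r * x * r⁻¹ * x⁻¹) * n⁻¹) * c⁻¹ by group, hab n hn _ hxN, mul_inv_cancel_right]
        set x' : N := ⟨c * x * c⁻¹, hNn.conj_mem x hx c⟩ with hx'
        have hr' : c * r * c⁻¹ ∈ CharApp.inertia N (θ : N → ℂ) := hLT (hRL (hRnorm c hc r hr))
        set y : N := ⟨c * r * c⁻¹ * x' * (c * r * c⁻¹)⁻¹, hNn.conj_mem x' x'.2 _⟩ with hy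
        refine ⟨y * x'⁻¹, ?_, ?_⟩
        · show y * x'⁻¹ ∈ l.ker
          rw [MonoidHom.mem_ker, map_mul,
            show l y = l x' by rw [hl]; exact (CharApp.mem_inertia_iff N).mp hr' x',
            ← map_mul, mul_inv_cancel, map_one]
        · show c * r * c⁻¹ * (c * x * c⁻¹) * (c * r * c⁻¹)⁻¹ * (c * x * c⁻¹)⁻¹ = _
          group
      rw [h0, Subgroup.mem_bot, mul_inv_eq_one, mul_inv_eq_iff_eq_mul] at h1
      exact h1
    · refine hχN (CharApp.trivOn_of_constituent_one N χ.2 ?_)
      have hl1 : ∀ m : N, l m = 1 := fun m => by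
        obtain ⟨m', hm', he⟩ := Subgroup.normalCore_le _ (h0.ge m.2)
        rw [← Subtype.ext he]
        exact hm'
      rw [show (1 : N → ℂ) = θ from funext fun m => by rw [← hl, hl1]; rfl]
      exact hθ

theorem not_dvd_relIndex_pCore [Fact p.Prime] {G : Type u} [Group G] [Finite G] (h : Hyp p G)
    (U : Subgroup G) [U.Normal] (hKU : elemGen 2 G ≤ U)
    (ha : ∃ a, (elemGen 2 G).relIndex U = p ^ a) : ¬ p ∣ (pCore p G).relIndex U :=
  not_dvd_relIndex_pCore_aux _ G le_rfl h U hKU ha

theorem sylow_normal [Fact p.Prime] {G : Type u} [Group G] [Finite G] (h : Hyp p G)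
    (U : Subgroup G) [U.Normal] (hKU : elemGen 2 G ≤ U)
    (ha : ∃ a, (elemGen 2 G).relIndex U = p ^ a) (Q : Sylow p U) : (Q : Subgroup U).Normal := by
  haveI : (pCore p G).Normal := PReduced.pCore_normal p G
  have hp' : IsPGroup p ((pCore p G).subgroupOf U) := (PReduced.isPGroup_pCore (G := G) p).comap_subtype
  let Q0 : Sylow p U := hp'.toSylow (not_dvd_relIndex_pCore h U hKU ha)
  haveI hn0 : (Q0 : Subgroup U).Normal := Subgroup.Normal.subgroupOf inferInstance U
  haveI := Sylow.unique_of_normal Q0 hn0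
  rw [Subsingleton.elim Q Q0]
  exact hn0

end Cfsg.Agent.RealDeg
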