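/-
Orbits on real characters and on real classes (namespace `Cfsg.Agent.RealDeg`).

* `card_orbits_eq` : if each element acts with odd order modulo inner automorphisms, as many orbits
  on real irreducible characters as on real classes
* `exists_real_over` : a real character of a normal subgroup of odd index lies under a real one
-/
import Cfsg.Agent.Lib.CharApp.PermLemma
import Cfsg.Agent.Lib.CharApp.Clifford
import Mathlib.GroupTheory.GroupAction.Quotient

set_option autoImplicit false
set_option linter.style.haveILetI false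

namespace Cfsg.Agent.RealDeg

open Cfsg Cfsg.Agent.Char
open scoped ComplexConjugate

/-- Real irreducible characters. -/
abbrev RealIrr (X : Type*) [Group X] :=
  {χ : IrrCharacter X // ∀ x : X, conj ((χ : X → ℂ) x) = (χ : X → ℂ) x}

/-- Real classes. -/
abbrev RealClass (X : Type*) [Group X] :=
  {C : ConjClasses X // ∀ x : X, ConjClasses.mk x = C → IsConj x x⁻¹}

variable {X : Type*} [Group X] {Γ : Type*} [Group Γ]

/-- The action on real irreducible characters. -/
@[reducible] noncomputable def realIrrAction (ψ : Γ →* MulAut X) : MulAction Γ (RealIrr X) where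
  smul γ θ := ⟨⟨fun x => (θ.1 : X → ℂ) (ψ γ⁻¹ x), IsIrrCharacter.comp_equiv θ.1.2 (ψ γ⁻¹)⟩,
    fun x => θ.2 _⟩
  one_smul θ := Subtype.ext (Subtype.ext (funext fun x => by
    show (θ.1 : X → ℂ) (ψ (1 : Γ)⁻¹ x) = _
    simp))
  mul_smul a b θ := Subtype.ext (Subtype.ext (funext fun x => by
    show (θ.1 : X → ℂ) (ψ (a * b)⁻¹ x) = (θ.1 : X → ℂ) (ψ b⁻¹ (ψ a⁻¹ x))
    rw [mul_inv_rev, map_mul]; rfl))

/-- The action on real classes. -/
@[reducible] def realClassAction (ψ : Γ →* MulAut X) : MulAction Γ (RealClass X) where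
  smul γ C := ⟨ConjClasses.map (ψ γ).toMonoidHom C.1, by
    obtain ⟨C, hC⟩ := C
    obtain ⟨a, rfl⟩ := ConjClasses.mk_surjective C
    intro x hx
    have h1 : IsConj x (ψ γ a) := ConjClasses.mk_eq_mk_iff_isConj.mp hx
    have h2 : IsConj (ψ γ a) (ψ γ a⁻¹) := (ψ γ).toMonoidHom.map_isConj (hC a rfl)
    rw [map_inv] at h2
    refine h1.trans (h2.trans ?_)
    obtain ⟨c, hc⟩ := isConj_iff.mp h1.symm
    exact isConj_iff.mpr ⟨c, by rw [← hc]; group⟩⟩
  one_smul C := Subtype.ext (by
    obtain ⟨a, ha⟩ := ConjClasses.mk_surjective C.1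
    show ConjClasses.map (ψ 1).toMonoidHom C.1 = C.1
    rw [← ha, map_one]; rfl)
  mul_smul a b C := Subtype.ext (by
    obtain ⟨x, hx⟩ := ConjClasses.mk_surjective C.1
    show ConjClasses.map (ψ (a * b)).toMonoidHom C.1 =
      ConjClasses.map (ψ a).toMonoidHom (ConjClasses.map (ψ b).toMonoidHom C.1)
    rw [← hx, map_mul]; rfl)

theorem isConj_inv {a b : X} (h : IsConj a b) : IsConj a⁻¹ b⁻¹ := by
  obtain ⟨c, rfl⟩ := isConj_iff.mp h
  exact isConj_iff.mpr ⟨c, by group⟩

/-- Fixed real characters and fixed real classes. -/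
theorem card_fixed_eq [Finite X] (α : MulAut X) {m : ℕ} (hm : Odd m)
    (hin : ∀ x : X, IsConj ((α ^ m) x) x) :
    Nat.card {θ : RealIrr X // ∀ x, (θ.1 : X → ℂ) (α x) = (θ.1 : X → ℂ) x} =
      Nat.card {C : RealClass X // ∀ x, ConjClasses.mk x = C.1 → IsConj (α x) x} := by
  obtain ⟨j, rfl⟩ := hm
  haveI := Fintype.ofFinite X
  have key : ∀ {Y : Type} (e : Y → Y → Prop), Equivalence e → ∀ F : X → Y,
      (∀ x y, IsConj x y → e (F x) (F y)) → (∀ x, e (F (α (α x))) (F x)) → ∀ x, e (F (α x)) (F x) := by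
    intro Y e he F hF h2 x
    have h4 : ∀ i y, e (F ((α ^ (2 * i)) y)) (F y) := by
      intro i
      induction i with
      | zero => intro y; exact he.refl _
      | succ i ih =>
        intro y
        rw [show 2 * (i + 1) = 2 * i + 2 by ring, pow_add, pow_two]
        exact he.trans (ih (α (α y))) (h2 y)
    have h5 : e (F ((α ^ (2 * j + 1)) x)) (F (α x)) := by
      rw [pow_succ]
      exact h4 j (α x)
    exact he.trans (he.symm h5) (hF _ _ (hin x))
  have h := CharApp.fixed_count (fun x => (α x)⁻¹) (fun χ => by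
      have h1 := IsIrrCharacter.conj (IsIrrCharacter.comp_equiv χ.2 α)
      rwa [show (χ : X → ℂ) ∘ (fun x => (α x)⁻¹) = fun x => conj ((χ : X → ℂ) (α x)) from
        funext fun x => IsCharacter.apply_inv (IsIrrCharacter.isCharacter χ.2) (α x)])
    (fun g k hgk => isConj_inv (α.toMonoidHom.map_isConj hgk))
  have hfix : ∀ χ : IrrCharacter X, (χ : X → ℂ) ∘ (fun x => (α x)⁻¹) = (χ : X → ℂ) ↔
      (∀ x, conj ((χ : X → ℂ) x) = (χ : X → ℂ) x) ∧
        ∀ x, (χ : X → ℂ) (α x) = (χ : X → ℂ) x := by
    intro χ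
    have hinv : ∀ x, (χ : X → ℂ) x⁻¹ = conj ((χ : X → ℂ) x) :=
      IsCharacter.apply_inv (IsIrrCharacter.isCharacter χ.2)
    refine ⟨fun hc => ?_, fun hc => funext fun x => ?_⟩
    · have h1 : ∀ x, conj ((χ : X → ℂ) (α x)) = (χ : X → ℂ) x := fun x => by
        rw [← hinv]; exact congrFun hc x
      have h2 : ∀ x, (χ : X → ℂ) (α x) = (χ : X → ℂ) x :=
        key (Eq : ℂ → ℂ → Prop) ⟨fun _ => rfl, Eq.symm, Eq.trans⟩ _ (fun x y hxy => by
          obtain ⟨c, rfl⟩ := isConj_iff.mp hxy
          exact (IsIrrCharacter.isClassFunction χ.2 x c).symm) fun x => by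
          rw [← h1 x, ← h1 (α x), Complex.conj_conj]
      exact ⟨fun x => by
        have h3 := h1 x
        rwa [h2 x] at h3, h2⟩
    · show (χ : X → ℂ) (α x)⁻¹ = _
      rw [hinv, hc.2, hc.1]
  refine Eq.trans ?_ (h.trans ?_)
  · refine Nat.card_congr ((Equiv.subtypeSubtypeEquivSubtypeInter
      (fun χ : IrrCharacter X => ∀ x, conj ((χ : X → ℂ) x) = (χ : X → ℂ) x)
      (fun χ : IrrCharacter X => ∀ x, (χ : X → ℂ) (α x) = (χ : X → ℂ) x)).trans
      (Equiv.subtypeEquivRight fun χ => (hfix χ).symm))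
  · refine Nat.card_congr ((Equiv.subtypeEquivRight fun C => ?_).trans
      (Equiv.subtypeSubtypeEquivSubtypeInter
        (fun C : ConjClasses X => ∀ x, ConjClasses.mk x = C → IsConj x x⁻¹)
        (fun C : ConjClasses X => ∀ x, ConjClasses.mk x = C → IsConj (α x) x)).symm)
    obtain ⟨a, rfl⟩ := ConjClasses.mk_surjective C
    refine ⟨fun hc => ?_, fun hc x hx => ?_⟩
    · have h1 : ∀ x, IsConj x a → IsConj (α x) x⁻¹ := fun x hx => by
        simpa using isConj_inv (hc x (ConjClasses.mk_eq_mk_iff_isConj.mpr hx))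
      -- `α² a ~ a`
      have ha : IsConj (α a) a⁻¹ := h1 a (IsConj.refl a)
      have h2 : IsConj (α (α a)) a := by
        have h3 : IsConj (α (α a)) (α a⁻¹) := α.toMonoidHom.map_isConj ha
        rw [map_inv] at h3
        exact h3.trans (by simpa using isConj_inv ha)
      have h4 : ∀ i, IsConj ((α ^ (2 * i)) a) a := by
        intro i
        induction i with
        | zero => exact IsConj.refl a
        | succ i ih =>
          rw [show 2 * (i + 1) = 2 * i + 2 by ring, pow_add, pow_two]
          exact ((α ^ (2 * i)).toMonoidHom.map_isConj h2).trans ih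
      have h5 : IsConj (α a) a := by
        have h6 : IsConj ((α ^ (2 * j + 1)) a) (α a) := by
          rw [pow_succ']
          exact α.toMonoidHom.map_isConj (h4 j)
        exact h6.symm.trans (hin a)
      have hall : ∀ x, IsConj x a → IsConj (α x) x := fun x hx =>
        ((α.toMonoidHom.map_isConj hx).trans h5).trans hx.symm
      exact ⟨fun x hx => (hall x (ConjClasses.mk_eq_mk_iff_isConj.mp hx)).symm.trans
        (h1 x (ConjClasses.mk_eq_mk_iff_isConj.mp hx)),
        fun x hx => hall x (ConjClasses.mk_eq_mk_iff_isConj.mp hx)⟩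
    · exact (isConj_inv (hc.2 x hx)).trans (hc.1 x hx).symm

/-- As many orbits on real characters as on real classes. -/
theorem card_orbits_eq [Finite X] [Finite Γ] (ψ : Γ →* MulAut X)
    (hin : ∀ γ : Γ, ∃ m, Odd m ∧ ∀ x : X, IsConj (ψ (γ ^ m) x) x) :
    letI := realIrrAction ψ; letI := realClassAction ψ
    Nat.card (MulAction.orbitRel.Quotient Γ (RealIrr X)) =
      Nat.card (MulAction.orbitRel.Quotient Γ (RealClass X)) := by
  classical
  letI := realIrrAction ψ; letI := realClassAction ψ
  haveI := Fintype.ofFinite Γ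
  haveI := Fintype.ofFinite (RealIrr X)
  haveI := Fintype.ofFinite (RealClass X)
  haveI := Fintype.ofFinite (MulAction.orbitRel.Quotient Γ (RealIrr X))
  haveI := Fintype.ofFinite (MulAction.orbitRel.Quotient Γ (RealClass X))
  have h1 := MulAction.sum_card_fixedBy_eq_card_orbits_mul_card_group Γ (RealIrr X)
  have h2 := MulAction.sum_card_fixedBy_eq_card_orbits_mul_card_group Γ (RealClass X)
  have hfix : ∀ γ : Γ, Fintype.card (MulAction.fixedBy (RealIrr X) γ) =
      Fintype.card (MulAction.fixedBy (RealClass X) γ) := by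
    intro γ
    rw [← Nat.card_eq_fintype_card, ← Nat.card_eq_fintype_card]
    obtain ⟨m, hm, hmx⟩ := hin γ
    refine Eq.trans (Nat.card_congr (Equiv.subtypeEquivRight fun θ => ?_))
      ((card_fixed_eq (ψ γ) hm (fun x => by rw [← map_pow]; exact hmx x)).trans
        (Nat.card_congr (Equiv.subtypeEquivRight fun C => ?_)))
    · refine ⟨fun h x => ?_, fun h => Subtype.ext (Subtype.ext (funext fun x => ?_))⟩
      · have h' := congrFun (congrArg (fun t : RealIrr X => (t.1 : X → ℂ)) h) (ψ γ x)
        change (θ.1 : X → ℂ) (ψ γ⁻¹ (ψ γ x)) = _ at h'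
        rw [← MulAut.mul_apply, ← map_mul, inv_mul_cancel, map_one] at h'
        exact h'.symm
      · show (θ.1 : X → ℂ) (ψ γ⁻¹ x) = _
        have h' := h (ψ γ⁻¹ x)
        rw [← MulAut.mul_apply, ← map_mul, mul_inv_cancel, map_one] at h'
        exact h'.symm
    · obtain ⟨C, hC⟩ := C
      obtain ⟨a, rfl⟩ := ConjClasses.mk_surjective C
      refine ⟨fun h => Subtype.ext (ConjClasses.mk_eq_mk_iff_isConj.mpr (h a rfl)), fun h x hx => ?_⟩
      have h' : IsConj (ψ γ a) a := ConjClasses.mk_eq_mk_iff_isConj.mp (congrArg Subtype.val h)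
      have hxa := ConjClasses.mk_eq_mk_iff_isConj.mp hx
      exact (((ψ γ).toMonoidHom.map_isConj hxa).trans h').trans hxa.symm
  rw [Finset.sum_congr rfl fun γ _ => hfix γ, h2] at h1
  rw [Nat.card_eq_fintype_card, Nat.card_eq_fintype_card]
  exact (Nat.eq_of_mul_eq_mul_right Fintype.card_pos h1).symm

/-- A real character of a normal subgroup of odd index lies under a real character. -/
theorem exists_real_over {G : Type*} [Group G] [Finite G] (K : Subgroup G) [K.Normal] [Fintype K]
    (hodd : Odd K.index) {θ : K → ℂ} (hθ : IsIrrCharacter K θ) (hr : ∀ x, conj (θ x) = θ x) :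
    ∃ χ : IrrCharacter G, (∀ g : G, ((χ : G → ℂ) g).im = 0) ∧
      classInner (fun n : K => (χ : G → ℂ) n) θ ≠ 0 := by
  classical
  haveI := Fintype.ofFinite G
  haveI := Fintype.ofFinite (IrrCharacter G)
  have hπ := IsCharacter.indFun K (IsIrrCharacter.isCharacter hθ)
  have hπr : ∀ g, conj (indFun K θ g) = indFun K θ g := fun g => by
    have he : ∀ y : G, conj (extendByZero K θ y) = extendByZero K θ y := fun y => by
      by_cases hy : y ∈ K
      · rw [extendByZero_mem K θ hy]; exact hr _
      · rw [extendByZero_not_mem K θ hy, map_zero]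
    simp only [indFun, map_mul, map_inv₀, map_natCast, map_sum, he]
  obtain ⟨m, hm, hmn⟩ := IsCharacter.decompose hπ
  have hself : classInner (indFun K θ) (indFun K θ) =
      (K.relIndex (CharApp.inertia K θ) : ℂ) := by
    have h : Nat.card K * K.relIndex (CharApp.inertia K θ) = Nat.card (CharApp.inertia K θ) := by
      rw [← Subgroup.relIndex_bot_left, ← Subgroup.relIndex_bot_left (CharApp.inertia K θ),
        Subgroup.relIndex_mul_relIndex _ _ _ bot_le
          (CharApp.le_inertia K (IsIrrCharacter.isClassFunction hθ))]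
    rw [frobenius_reciprocity K θ (indFun_isClassFunction K θ),
      show (fun n : K => indFun K θ (n : G)) = (Nat.card K : ℂ)⁻¹ • CliffordChar.orbitSum K θ from
        funext fun n => CliffordChar.indFun_coe K θ n,
      classInner_smul_right, ← classInner_conj_symm (CliffordChar.orbitSum K θ) θ,
      CharApp.classInner_orbitSum_self K hθ, ← h, Complex.conj_natCast, map_inv₀, Complex.conj_natCast,
      Nat.cast_mul, ← mul_assoc, inv_mul_cancel₀ (Nat.cast_ne_zero.mpr Nat.card_pos.ne'), one_mul]
  have hsum : ∑ χ, m χ * m χ = K.relIndex (CharApp.inertia K θ) := by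
    have h2 : classInner (indFun K θ) (indFun K θ) = ∑ χ, (m χ : ℂ) * (m χ : ℂ) := by
      rw [CharApp.classInner_eq_sum_mul hm]
      exact Finset.sum_congr rfl fun χ _ => by rw [CharApp.classInner_comm_of_nat (hmn χ)]
    rw [hself] at h2
    exact_mod_cast h2.symm
  by_contra hno
  push Not at hno
  let σ : IrrCharacter G → IrrCharacter G := fun χ => ⟨_, IsIrrCharacter.conj χ.2⟩
  have hσ : ∀ χ, m (σ χ) = m χ := fun χ => by
    have h : classInner (indFun K θ) (fun g => conj ((χ : G → ℂ) g)) = (m χ : ℂ) := by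
      rw [← Complex.conj_natCast (m χ), ← hmn χ]
      simp only [classInner, map_mul, map_inv₀, map_natCast, map_sum, hπr]
    exact_mod_cast (hmn (σ χ)).symm.trans h
  have hz : ∑ χ, ((m χ * m χ : ℕ) : ZMod 2) = 0 := by
    refine Finset.sum_involution (fun χ _ => σ χ) (fun χ _ => ?_) (fun χ _ hne he => ?_)
      (fun χ _ => Finset.mem_univ _) (fun χ _ => Subtype.ext (funext fun g => Complex.conj_conj _))
    · show ((m χ * m χ : ℕ) : ZMod 2) + ((m (σ χ) * m (σ χ) : ℕ) : ZMod 2) = 0
      rw [hσ]; exact CharTwo.add_self_eq_zero _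
    · refine hne ?_
      have h0 := hno χ fun g => Complex.conj_eq_iff_im.mp (congrFun (congrArg Subtype.val he) g)
      have h1 : (m χ : ℂ) = 0 := by
        rw [← hmn χ, frobenius_reciprocity K θ (IsIrrCharacter.isClassFunction χ.2),
          ← classInner_conj_symm, h0, map_zero]
      rw [Nat.cast_eq_zero.mp h1, zero_mul, Nat.cast_zero]
  rw [← Nat.cast_sum, hsum, ZMod.natCast_eq_zero_iff_even] at hz
  exact Nat.not_even_iff_odd.mpr (hodd.of_dvd_nat
    ((Subgroup.relIndex_dvd_index_of_normal K _))) hz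

end Cfsg.Agent.RealDeg
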