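/-
Real characters over real characters of a normal subgroup of odd index (namespace `Cfsg.Agent.RealDeg`).

* `real_over_unique`, `exists_real_under` : real characters of `G` ↔ orbits of real characters of `K`
* `exists_real_ext` : an invariant real character extends to a real one
* `real_degree` : the real character over `θ` has degree `|G : T| θ(1)`
-/
import Cfsg.Agent.Lib.RealDeg.Basic
import Cfsg.Agent.Lib.RealDeg.Orbits
import Cfsg.Agent.Lib.CharApp.CoprimeFixed
import Cfsg.Agent.Lib.CharExtend.Basic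
import Cfsg.Agent.Lib.CentralChar.Twist

set_option autoImplicit false
set_option linter.style.haveILetI false

namespace Cfsg.Agent.RealDeg

open Cfsg Cfsg.Agent.Char
open scoped ComplexConjugate

universe u

/-- `χ` lies over `θ`. -/
abbrev Over {G : Type*} [Group G] (K : Subgroup G) [Fintype K] (χ : G → ℂ) (θ : K → ℂ) : Prop :=
  classInner (fun n : K => χ n) θ ≠ 0

theorem isConj_inv_subgroup {G : Type*} [Group G] [Finite G] (K : Subgroup G) [K.Normal]
    (hodd : Odd K.index) {x : K} (hx : IsConj (x : G) (x : G)⁻¹) : IsConj x x⁻¹ := by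
  obtain ⟨y, hy⟩ := isConj_iff.mp hx
  obtain ⟨j, hj⟩ := hodd
  have hym : y ^ (2 * j + 1) ∈ K := hj ▸ K.pow_index_mem y
  have h3 : y * (x : G)⁻¹ * y⁻¹ = x := by
    have := congrArg (fun t => t⁻¹) hy
    simpa [mul_assoc] using this
  have h2 : Commute (y * y) (x : G) := by
    show y * y * x = x * (y * y)
    calc y * y * x = y * (y * x * y⁻¹) * y := by group
      _ = (y * (x : G)⁻¹ * y⁻¹) * (y * y) := by rw [hy]; group
      _ = x * (y * y) := by rw [h3]
  refine isConj_iff.mpr ⟨⟨_, hym⟩, Subtype.ext ?_⟩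
  show y ^ (2 * j + 1) * x * (y ^ (2 * j + 1))⁻¹ = (x : G)⁻¹
  rw [pow_succ', pow_mul, pow_two, show y * (y * y) ^ j * x * (y * (y * y) ^ j)⁻¹ =
    y * ((y * y) ^ j * x * ((y * y) ^ j)⁻¹) * y⁻¹ by group, (h2.pow_left j).eq, mul_inv_cancel_right, hy]

theorem real_over_aux {G : Type u} [Group G] [Finite G] (K : Subgroup G) [K.Normal] [Fintype K]
    (hodd : Odd K.index) :
    (∀ (θ : RealIrr K) (χ χ' : RealIrr G), Over K (χ.1 : G → ℂ) (θ.1 : K → ℂ) →
      Over K (χ'.1 : G → ℂ) (θ.1 : K → ℂ) → χ = χ') ∧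
    ∀ χ : RealIrr G, ∃ θ : RealIrr K, Over K (χ.1 : G → ℂ) (θ.1 : K → ℂ) := by
  classical
  haveI := Fintype.ofFinite G
  let ψK : G →* MulAut K := MulAut.conjNormal
  letI := realIrrAction ψK
  letI := realClassAction ψK
  have hin : ∀ g : G, ∃ m, Odd m ∧ ∀ a : K, IsConj (ψK (g ^ m) a) a := fun g =>
    ⟨K.index, hodd, fun a => (isConj_iff.mpr
      ⟨⟨g ^ K.index, K.pow_index_mem g⟩, Subtype.ext (MulAut.conjNormal_apply (g ^ K.index) a).symm⟩ :
        IsConj a (ψK (g ^ K.index) a)).symm⟩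
  -- a real character over each orbit
  have hsel : ∀ o : MulAction.orbitRel.Quotient G (RealIrr K), ∃ (θ : RealIrr K) (χ : RealIrr G),
      Quotient.mk'' θ = o ∧ Over K (χ.1 : G → ℂ) (θ.1 : K → ℂ) := by
    intro o
    induction o using Quotient.inductionOn' with
    | h θ =>
      obtain ⟨χ, hχr, hχ⟩ := exists_real_over K hodd θ.1.2 θ.2
      exact ⟨θ, ⟨χ, fun g => Complex.conj_eq_iff_im.mpr (hχr g)⟩, rfl, hχ⟩
  choose Θ Φ hΘ hΦ using hsel
  have horb : ∀ (χ : RealIrr G) (θ θ' : RealIrr K), Over K (χ.1 : G → ℂ) (θ.1 : K → ℂ) →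
      Over K (χ.1 : G → ℂ) (θ'.1 : K → ℂ) →
      (Quotient.mk'' θ' : MulAction.orbitRel.Quotient G (RealIrr K)) = Quotient.mk'' θ := by
    intro χ θ θ' h h'
    obtain ⟨g, hg⟩ := CliffordChar.constituents_conjugate K χ.1.2 θ.1.2 θ'.1.2 h h'
    exact Quotient.sound' ⟨g, Subtype.ext (Subtype.ext hg)⟩
  have hinj : Function.Injective Φ := fun o o' h => by
    rw [← hΘ o, ← hΘ o']
    exact horb (Φ o) (Θ o') (Θ o) (h ▸ hΦ o') (hΦ o)
  -- counting
  have hcard : Nat.card (MulAction.orbitRel.Quotient G (RealIrr K)) = Nat.card (RealIrr G) := by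
    have h1 : Nat.card (RealIrr G) = Nat.card (RealClass G) := by
      rw [← CharApp.card_real_irr]
      exact Nat.card_congr (Equiv.subtypeEquivRight fun χ => forall_congr' fun g =>
        Complex.conj_eq_iff_im)
    rw [card_orbits_eq ψK hin, h1]
    have hrep : ∀ o : MulAction.orbitRel.Quotient G (RealClass K), ∃ (x : K) (C : RealClass K),
        C.1 = ConjClasses.mk x ∧ Quotient.mk'' C = o := by
      intro o
      induction o using Quotient.inductionOn' with
      | h C =>
        obtain ⟨x, hx⟩ := ConjClasses.mk_surjective C.1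
        exact ⟨x, C, hx.symm, rfl⟩
    choose x C hC hCo using hrep
    refine Nat.card_eq_of_bijective
      (fun o => (⟨ConjClasses.mk (x o : G), fun y hy => ?_⟩ : RealClass G)) ⟨fun o o' h => ?_, ?_⟩
    · have h2 : IsConj (x o : G) (x o : G)⁻¹ := K.subtype.map_isConj ((C o).2 _ (hC o).symm)
      have h3 := ConjClasses.mk_eq_mk_iff_isConj.mp hy
      exact h3.trans (h2.trans (RealDeg.isConj_inv h3.symm))
    · obtain ⟨g, hg⟩ := isConj_iff.mp (ConjClasses.mk_eq_mk_iff_isConj.mp (congrArg Subtype.val h.symm))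
      rw [← hCo o, ← hCo o']
      refine Quotient.sound' ⟨g, Subtype.ext ?_⟩
      show ConjClasses.map (ψK g).toMonoidHom (C o').1 = (C o).1
      rw [hC o, hC o']
      refine congrArg ConjClasses.mk (Subtype.ext ?_)
      show ((MulAut.conjNormal g (x o') : K) : G) = x o
      rw [MulAut.conjNormal_apply]
      exact hg
    · rintro ⟨c, hc⟩
      obtain ⟨y, rfl⟩ := ConjClasses.mk_surjective c
      have hy := hc y rfl
      have hyK : y ∈ K := by
        rw [← QuotientGroup.eq_one_iff]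
        refine CharApp.eq_one_of_real_of_odd (by rwa [← Subgroup.index_eq_card]) ?_
        have h := (QuotientGroup.mk' K).map_isConj hy
        rwa [map_inv] at h
      have hyr : IsConj (⟨y, hyK⟩ : K) (⟨y, hyK⟩ : K)⁻¹ := isConj_inv_subgroup K hodd hy
      let o : MulAction.orbitRel.Quotient G (RealClass K) :=
        Quotient.mk'' ⟨ConjClasses.mk ⟨y, hyK⟩, fun z hz => by
          have h3 := ConjClasses.mk_eq_mk_iff_isConj.mp hz
          exact h3.trans (hyr.trans (RealDeg.isConj_inv h3.symm))⟩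
      refine ⟨o, Subtype.ext (ConjClasses.mk_eq_mk_iff_isConj.mpr ?_)⟩
      obtain ⟨g, hg⟩ := Quotient.exact' (hCo o)
      have h4 : IsConj (ψK g ⟨y, hyK⟩) (x o) :=
        ConjClasses.mk_eq_mk_iff_isConj.mp ((congrArg Subtype.val hg).trans (hC o))
      have h5 : IsConj ((ψK g ⟨y, hyK⟩ : K) : G) (x o : G) := K.subtype.map_isConj h4
      exact ((isConj_iff.mpr ⟨g, (MulAut.conjNormal_apply g (⟨y, hyK⟩ : K)).symm⟩ :
        IsConj y ((ψK g ⟨y, hyK⟩ : K) : G)).trans h5).symm
  have hbij := (Nat.bijective_iff_injective_and_card Φ).mpr ⟨hinj, hcard⟩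
  refine ⟨fun θ χ χ' h h' => ?_, fun χ => ?_⟩
  · obtain ⟨o, rfl⟩ := hbij.2 χ
    obtain ⟨o', rfl⟩ := hbij.2 χ'
    rw [show o = o' by
      rw [← hΘ o, ← hΘ o', horb (Φ o) θ (Θ o) h (hΦ o), horb (Φ o') θ (Θ o') h' (hΦ o')]]
  · obtain ⟨o, rfl⟩ := hbij.2 χ
    exact ⟨Θ o, hΦ o⟩

theorem real_over_unique {G : Type u} [Group G] [Finite G] (K : Subgroup G) [K.Normal] [Fintype K]
    (hodd : Odd K.index) {θ : K → ℂ} (hθ : IsIrrCharacter K θ) (hr : ∀ x, conj (θ x) = θ x)
    {χ χ' : G → ℂ} (hχ : IsIrrCharacter G χ) (hχr : ∀ g, conj (χ g) = χ g)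
    (hχ' : IsIrrCharacter G χ') (hχr' : ∀ g, conj (χ' g) = χ' g) (h : Over K χ θ)
    (h' : Over K χ' θ) : χ = χ' :=
  congrArg (fun t : RealIrr G => (t.1 : G → ℂ))
    ((real_over_aux K hodd).1 ⟨⟨θ, hθ⟩, hr⟩ ⟨⟨χ, hχ⟩, hχr⟩ ⟨⟨χ', hχ'⟩, hχr'⟩ h h')

theorem exists_real_under {G : Type u} [Group G] [Finite G] (K : Subgroup G) [K.Normal] [Fintype K]
    (hodd : Odd K.index) (χ : IrrCharacter G) (hχr : ∀ g, conj ((χ : G → ℂ) g) = (χ : G → ℂ) g) :
    ∃ θ : RealIrr K, Over K (χ : G → ℂ) (θ.1 : K → ℂ) :=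
  (real_over_aux K hodd).2 ⟨χ, hχr⟩

/-- An invariant real character extends to a real character along a quotient of prime power order. -/
theorem exists_real_ext_pgroup_aux (r : ℕ) [Fact r.Prime] (n : ℕ) : ∀ (G : Type u) [Group G] [Finite G]
    (K : Subgroup G) [K.Normal], K.index ≤ n → IsPGroup r (G ⧸ K) → Odd K.index →
    ∀ θ : K → ℂ, IsIrrCharacter K θ → (∀ x, conj (θ x) = θ x) →
      (∀ (g : G) (x : K), θ ⟨g * x * g⁻¹, ‹K.Normal›.conj_mem x x.2 g⟩ = θ x) →
      ∃ χ : G → ℂ, IsIrrCharacter G χ ∧ (∀ g, conj (χ g) = χ g) ∧ ∀ x : K, χ x = θ x := by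
  classical
  induction n with
  | zero =>
    intro G _ _ K _ hn
    exact absurd hn (Nat.pos_of_ne_zero Subgroup.index_ne_zero_of_finite).not_ge
  | succ n ih =>
    intro G _ _ K _ hn hr hodd θ hθ hθr hinv
    haveI := Fintype.ofFinite G
    haveI := Fintype.ofFinite K
    by_cases hK : K = ⊤
    · subst hK
      refine ⟨fun g => θ ⟨g, Subgroup.mem_top g⟩, ?_, fun g => hθr _, fun x => rfl⟩
      exact IsIrrCharacter.comp_equiv hθ (Subgroup.topEquiv (G := G)).symm
    haveI : Nontrivial (G ⧸ K) := QuotientGroup.nontrivial_iff.mpr hK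
    obtain ⟨z, hz, hz1⟩ := (Subgroup.center (G ⧸ K)).bot_or_exists_ne_one.resolve_left
      (bot_lt_iff_ne_bot.mp hr.bot_lt_center)
    haveI hzn : (Subgroup.zpowers z).Normal := ⟨fun x hx g => by
      have hxc : x ∈ Subgroup.center (G ⧸ K) := (Subgroup.zpowers_le.mpr hz) hx
      rw [Subgroup.mem_center_iff.mp hxc g, mul_inv_cancel_right]
      exact hx⟩
    set π := QuotientGroup.mk' K
    set M := (Subgroup.zpowers z).comap π with hM
    haveI : M.Normal := hzn.comap π
    have hKM : K ≤ M := fun x hx => by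
      rw [hM, Subgroup.mem_comap, QuotientGroup.mk'_apply, (QuotientGroup.eq_one_iff x).mpr hx]
      exact one_mem _
    have hMK : M.index < K.index := by
      refine lt_of_le_of_ne (Nat.le_of_dvd (Nat.pos_of_ne_zero Subgroup.index_ne_zero_of_finite)
        (Subgroup.index_dvd_of_le hKM)) fun h => ?_
      have h1 := Subgroup.relIndex_mul_index hKM
      rw [h] at h1
      have h2 : K.relIndex M = 1 := by
        have := Nat.pos_of_ne_zero (K.index_ne_zero_of_finite)
        exact Nat.eq_of_mul_eq_mul_right this (h1.trans (one_mul _).symm)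
      obtain ⟨w, hw⟩ := QuotientGroup.mk'_surjective K z
      have hwM : w ∈ M := by rw [hM, Subgroup.mem_comap, hw]; exact Subgroup.mem_zpowers z
      exact hz1 (by rw [← hw, QuotientGroup.mk'_apply,
        (QuotientGroup.eq_one_iff w).mpr (Subgroup.relIndex_eq_one.mp h2 hwM)])
    haveI := Fintype.ofFinite M
    set K' := K.subgroupOf M
    haveI : K'.Normal := Subgroup.Normal.subgroupOf inferInstance M
    haveI := Fintype.ofFinite K'
    let e : K' ≃* K := Subgroup.subgroupOfEquivOfLe hKM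
    haveI : IsCyclic (M ⧸ K') := by
      let f : M →* Subgroup.zpowers z := (π.comp M.subtype).codRestrict _ fun x => x.2
      have hker : f.ker = K' := by
        ext x
        rw [MonoidHom.mem_ker, Subgroup.mem_subgroupOf, ← QuotientGroup.eq_one_iff (N := K)]
        exact Subtype.ext_iff
      let F : (M ⧸ K') →* Subgroup.zpowers z := QuotientGroup.lift K' f hker.ge
      exact isCyclic_of_injective F ((injective_iff_map_eq_one F).mpr fun a => by
        obtain ⟨x, rfl⟩ := QuotientGroup.mk'_surjective K' a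
        intro hx
        exact (QuotientGroup.eq_one_iff x).mpr (hker.le hx))
    have hoddM : Odd K'.index := hodd.of_dvd_nat (Subgroup.relIndex_dvd_index_of_normal K M)
    set θ' : K' → ℂ := fun x => θ (e x) with hθ'
    have hθ'irr : IsIrrCharacter K' θ' := IsIrrCharacter.comp_equiv hθ e
    have hext : ∃ χ0 : M → ℂ, IsIrrCharacter M χ0 ∧ ∀ x : K', χ0 x = θ' x := by
      obtain ⟨m, ρ, hρ, he⟩ := hθ'irr
      haveI := hρ
      obtain ⟨R, hR⟩ := CharExtend.hom_of_cyclic (N := K') inferInstance ρ fun g x => by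
        rw [he]
        exact hinv (g : G) (e x)
      obtain ⟨χ0, h1, h2⟩ := CharExtend.extends_of_hom ρ R hR
      exact ⟨χ0, h1, fun x => (h2 x).trans (congrFun he x)⟩
    obtain ⟨χ0, hχ0, hχ0K⟩ := hext
    obtain ⟨χ1, hχ1r, hχ1⟩ := exists_real_over K' hoddM hθ'irr fun x => hθr _
    have hab : ∀ a b : M, a * b * a⁻¹ * b⁻¹ ∈ K' := fun a b => by
      rw [← QuotientGroup.eq_one_iff]
      letI : CommGroup (M ⧸ K') := IsCyclic.commGroup
      simp only [QuotientGroup.mk_mul, QuotientGroup.mk_inv]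
      exact mul_inv_eq_one.mpr (mul_inv_eq_iff_eq_mul.mpr (mul_comm _ _))
    obtain ⟨l, hl, hl'⟩ := CharApp.exists_linear_twist_of_abelian_quotient K' hab hθ'irr hχ0 χ1.2
      (by
        rw [show (fun n : K' => χ0 n) = θ' from funext hχ0K, classInner_irr_self hθ'irr]
        exact one_ne_zero) hχ1
    have hχ1K : ∀ x : K', (χ1 : M → ℂ) x = θ' x := fun x => by
      rw [hl', Pi.mul_apply, hl, mul_one, hχ0K]
    have hχ1conj : ∀ x, conj ((χ1 : M → ℂ) x) = (χ1 : M → ℂ) x :=
      fun x => Complex.conj_eq_iff_im.mpr (hχ1r x)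
    have hχ1inv : ∀ (g : G) (x : M),
        (χ1 : M → ℂ) ⟨g * x * g⁻¹, ‹M.Normal›.conj_mem x x.2 g⟩ = (χ1 : M → ℂ) x := by
      intro g
      let c : MulAut M := MulAut.conjNormal g
      have hc : ∀ x : M, ((c x : M) : G) = g * x * g⁻¹ := MulAut.conjNormal_apply g
      have h3 := real_over_unique K' hoddM hθ'irr (fun x => hθr _)
        (χ := fun x => (χ1 : M → ℂ) (c x)) (IsIrrCharacter.comp_equiv χ1.2 c) (fun x => hχ1conj _)
        χ1.2 hχ1conj (by
          have e2 : (fun n : K' => (χ1 : M → ℂ) (c n)) = θ' := funext fun n => by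
            have hmem : c (n : M) ∈ K' := by
              rw [Subgroup.mem_subgroupOf, hc]
              exact ‹K.Normal›.conj_mem _ n.2 g
            rw [show c (n : M) = ((⟨c n, hmem⟩ : K') : M) from rfl, hχ1K]
            show θ (e ⟨c n, hmem⟩) = θ (e n)
            rw [← hinv g (e n)]
            exact congrArg θ (Subtype.ext (hc n))
          show classInner (fun n : K' => (χ1 : M → ℂ) (c n)) θ' ≠ 0
          rw [e2, classInner_irr_self hθ'irr]
          exact one_ne_zero) hχ1
      intro x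
      exact Eq.trans (congrArg (χ1 : M → ℂ) (Subtype.ext (hc x).symm)) (congrFun h3 x)
    have hMr : IsPGroup r (G ⧸ M) := hr.of_surjective
      (QuotientGroup.map K M (MonoidHom.id G) hKM) fun a => by
        obtain ⟨g, rfl⟩ := QuotientGroup.mk'_surjective M a
        exact ⟨(g : G ⧸ K), rfl⟩
    obtain ⟨χ, h1, h2, h3⟩ := ih G M (by omega) hMr (hodd.of_dvd_nat (Subgroup.index_dvd_of_le hKM))
      χ1 χ1.2 hχ1conj hχ1inv
    refine ⟨χ, h1, h2, fun x => ?_⟩
    rw [show χ (x : G) = (χ1 : M → ℂ) ⟨x, hKM x.2⟩ from h3 ⟨x, hKM x.2⟩]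
    exact hχ1K ⟨⟨x, hKM x.2⟩, x.2⟩

/-- An invariant real character of a normal subgroup of odd index extends to a real character. -/
theorem exists_real_ext {G : Type u} [Group G] [Finite G] (K : Subgroup G) [K.Normal]
    (hodd : Odd K.index) {θ : K → ℂ} (hθ : IsIrrCharacter K θ) (hθr : ∀ x, conj (θ x) = θ x)
    (hinv : ∀ (g : G) (x : K), θ ⟨g * x * g⁻¹, ‹K.Normal›.conj_mem x x.2 g⟩ = θ x) :
    ∃ χ : G → ℂ, IsIrrCharacter G χ ∧ (∀ g, conj (χ g) = χ g) ∧ ∀ x : K, χ x = θ x := by
  classical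
  haveI := Fintype.ofFinite G
  haveI := Fintype.ofFinite K
  have hext : ∃ χ0 : G → ℂ, IsIrrCharacter G χ0 ∧ ∀ x : K, χ0 x = θ x := by
    obtain ⟨m, ρ, hρ, he⟩ := id hθ
    haveI := hρ
    obtain ⟨R, hR⟩ := CharExtend.hom_of_local_extensions ρ (by rw [he]; exact hinv) fun q hq => by
      haveI : Fact q.Prime := ⟨hq⟩
      obtain ⟨S⟩ : Nonempty (Sylow q G) := inferInstance
      set T := (S : Subgroup G) ⊔ K with hT
      have hKT : K ≤ T := le_sup_right
      haveI : (K.subgroupOf T).Normal := Subgroup.Normal.subgroupOf inferInstance T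
      have hTr : IsPGroup q (T ⧸ K.subgroupOf T) := by
        obtain ⟨b, hb⟩ := IsPGroup.iff_card.mp S.2
        obtain ⟨c, -, hc⟩ := (Nat.dvd_prime_pow hq).mp
          (show K.relIndex T ∣ q ^ b by
            rw [hT, Subgroup.relIndex_sup_right, ← hb]
            exact Subgroup.relIndex_dvd_card K _)
        exact IsPGroup.of_card (n := c) (by rw [← Subgroup.index_eq_card]; exact hc)
      let e : K.subgroupOf T ≃* K := Subgroup.subgroupOfEquivOfLe hKT
      obtain ⟨η, hη, -, hηK⟩ := exists_real_ext_pgroup_aux q _ T (K.subgroupOf T) le_rfl hTr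
        (hodd.of_dvd_nat (Subgroup.relIndex_dvd_index_of_normal K T)) (fun x => θ (e x))
        (IsIrrCharacter.comp_equiv hθ e) (fun x => hθr _) fun g x => hinv (g : G) (e x)
      have hcop : Nat.Coprime T.index q := by
        refine Nat.Coprime.symm (hq.coprime_iff_not_dvd.mpr fun h => S.not_dvd_index ?_)
        exact h.trans (Subgroup.index_dvd_of_le le_sup_left)
      obtain ⟨d, σ, -, hσ⟩ := hη
      have hd : d = m := by
        have h1 := hηK 1
        rw [OneMemClass.coe_one, map_one, ← congrFun hσ 1, ← congrFun he 1, Representation.char_one,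
          Representation.char_one, Module.finrank_fin_fun, Module.finrank_fin_fun] at h1
        exact_mod_cast h1
      subst hd
      let j : K →* T := Subgroup.inclusion hKT
      obtain ⟨f⟩ := Char.equiv_of_character_eq (σ.comp j : Representation ℂ K (Fin d → ℂ)) ρ
        (funext fun x => by
          have h1 := hηK (e.symm x)
          rw [MulEquiv.apply_symm_apply, ← congrFun hσ, ← congrFun he] at h1
          exact h1)
      let u : CharExtend.EU d := ⟨f.toLinearEquiv.toLinearMap, f.toLinearEquiv.symm.toLinearMap,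
        LinearMap.ext fun v => f.toLinearEquiv.apply_symm_apply v,
        LinearMap.ext fun v => f.toLinearEquiv.symm_apply_apply v⟩
      refine ⟨T, hKT, (MulAut.conj u).toMonoidHom.comp σ.toHomUnits, hcop, fun x => ?_⟩
      show u * σ.toHomUnits (j x) * u⁻¹ = ρ.toHomUnits x
      rw [mul_inv_eq_iff_eq_mul]
      exact Units.ext (f.toIntertwiningMap.isIntertwining' x)
    obtain ⟨χ0, h1, h2⟩ := CharExtend.extends_of_hom ρ R hR
    exact ⟨χ0, h1, fun x => (h2 x).trans (congrFun he x)⟩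
  obtain ⟨χ0, hχ0, hχ0K⟩ := hext
  obtain ⟨c, hc, hc'⟩ := CentralChar.exists_linear_twist K hχ0 (IsIrrCharacter.conj hχ0)
    (by rw [show (fun x : K => χ0 x) = θ from funext hχ0K]; exact hθ)
    (fun x => by rw [hχ0K, hθr])
  obtain ⟨j, hj⟩ := hodd
  have hcm : ∀ g, c g ^ (2 * j + 1) = 1 := fun g => by
    rw [← map_pow, ← hj, hc _ (K.pow_index_mem g)]
  have hcconj : ∀ g, conj (c g) * c g = 1 := fun g => by
    rw [← IsCharacter.apply_inv (isCharacter_of_hom c) g, ← map_mul, inv_mul_cancel, map_one]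
  let l : G →* ℂ := (powMonoidHom (j + 1)).comp c
  refine ⟨χ0 * (l : G → ℂ), IsIrrCharacter.mul_linear hχ0 l, fun g => ?_, fun x => ?_⟩
  · show conj (χ0 g * c g ^ (j + 1)) = χ0 g * c g ^ (j + 1)
    have h1 : conj (c g) = c g ^ (2 * j) := by
      calc conj (c g) = conj (c g) * c g ^ (2 * j + 1) := by rw [hcm, mul_one]
        _ = (conj (c g) * c g) * c g ^ (2 * j) := by ring
        _ = c g ^ (2 * j) := by rw [hcconj, one_mul]
    rw [map_mul, map_pow, hc' g, h1]
    calc c g * χ0 g * (c g ^ (2 * j)) ^ (j + 1)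
        = χ0 g * c g ^ (j + 1) * (c g ^ (2 * j + 1)) ^ j := by ring
      _ = χ0 g * c g ^ (j + 1) := by rw [hcm, one_pow, mul_one]
  · show χ0 (x : G) * c (x : G) ^ (j + 1) = θ x
    rw [hc _ x.2, one_pow, mul_one, hχ0K]

/-- The degree of the real character over a real character. -/
theorem real_degree {G : Type u} [Group G] [Finite G] (K : Subgroup G) [K.Normal] [Fintype K]
    (hodd : Odd K.index) {θ : K → ℂ} (hθ : IsIrrCharacter K θ) (hθr : ∀ x, conj (θ x) = θ x)
    {χ : G → ℂ} (hχ : IsIrrCharacter G χ) (hχr : ∀ g, conj (χ g) = χ g) (h : Over K χ θ) :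
    χ 1 = ((CharApp.inertia K θ).index : ℂ) * θ 1 := by
  classical
  haveI := Fintype.ofFinite G
  set T := CharApp.inertia K θ with hT
  haveI := Fintype.ofFinite T
  have hKT : K ≤ T := CharApp.le_inertia K (IsIrrCharacter.isClassFunction hθ)
  haveI : (K.subgroupOf T).Normal := Subgroup.Normal.subgroupOf inferInstance T
  let e : K.subgroupOf T ≃* K := Subgroup.subgroupOfEquivOfLe hKT
  obtain ⟨η, hη, hηr, hηK⟩ := exists_real_ext (K.subgroupOf T)
    (hodd.of_dvd_nat (Subgroup.relIndex_dvd_index_of_normal K T))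
    (θ := fun x => θ (e x)) (IsIrrCharacter.comp_equiv hθ e) (fun x => hθr _)
    fun g x => (CharApp.mem_inertia_iff K).mp g.2 (e x)
  have hres : (fun n : K => η ⟨(n : G), hKT n.2⟩) = θ := funext fun n => hηK ⟨⟨(n : G), hKT n.2⟩, n.2⟩
  have hne : classInner (fun n : K => η ⟨(n : G), hKT n.2⟩) θ ≠ 0 := by
    rw [hres, classInner_irr_self hθ]; exact one_ne_zero
  obtain ⟨hirr, hmult, -⟩ := CharApp.clifford_correspondence K hθ hη hne
  have hreal : ∀ g, conj (indFun T η g) = indFun T η g := fun g => by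
    have he : ∀ y : G, conj (extendByZero T η y) = extendByZero T η y := fun y => by
      by_cases hy : y ∈ T
      · rw [extendByZero_mem T η hy]; exact hηr _
      · rw [extendByZero_not_mem T η hy, map_zero]
    simp only [indFun, map_mul, map_inv₀, map_natCast, map_sum, he]
  have heq : χ = indFun T η := real_over_unique K hodd hθ hθr hχ hχr hirr hreal h
    (fun h0 => hne (hmult.symm.trans h0))
  rw [heq, indFun_one_apply, ← congrFun hres 1]
  rfl

end Cfsg.Agent.RealDeg
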