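/-
A McKay bijection for real characters when all of them have degree prime to `p`
(namespace `Cfsg.Agent.RealDeg`).

* `exists_real_mckay`
-/
import Cfsg.Agent.Lib.RealDeg.NormalSylow
import Cfsg.Agent.Lib.RealDeg.RealOver
import Cfsg.Agent.Lib.RelGlauber.Main
import Cfsg.Agent.Lib.Coprime.Basic

set_option autoImplicit false
set_option linter.style.haveILetI false

namespace Cfsg.Agent.RealDeg

open Cfsg Cfsg.Agent.Char
open Cfsg.Agent.GlauberChar (IsFixed)
open Cfsg.Agent.RelGlauber (rm Setting)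
open scoped ComplexConjugate Pointwise

universe u

theorem rm_compat {K : Type*} [Group K] {C : Type*} [Group C] [Fintype C] {ι : C →* K}
    (α : MulAut K) (β₀ : MulAut C) (h : ∀ c : C, α (ι c) = ι (β₀ c)) (θ : K → ℂ) (β : C → ℂ) :
    rm ι (fun k => θ (α k)) (fun c => β (β₀ c)) = rm ι θ β := by
  unfold RelGlauber.rm
  simp only [h]
  rw [classInner_comp_equiv β₀ (fun c : C => θ (ι c)) β]

theorem rm_conj {K : Type*} [Group K] {C : Type*} [Group C] [Fintype C] {ι : C →* K}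
    {θ : K → ℂ} (hr : ∀ k, conj (θ k) = θ k) (β : C → ℂ) :
    rm ι θ (fun c => conj (β c)) = rm ι θ β := by
  unfold RelGlauber.rm
  rw [show classInner (fun c : C => θ (ι c)) (fun c => conj (β c)) =
    conj (classInner (fun c : C => θ (ι c)) β) by
      simp only [classInner, map_mul, map_inv₀, map_natCast, map_sum, hr],
    Complex.conj_re]

variable {p : ℕ} [hp : Fact p.Prime]

/-- Modulo `p`, the index of `T ≥ P` is its index in the normalizer of `P`. -/
theorem relIndex_normalizer_cast {G : Type*} [Group G] [Finite G] (P : Sylow p G) {T : Subgroup G}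
    (hPT : (P : Subgroup G) ≤ T) :
    (T.relIndex (Subgroup.normalizer ((P : Subgroup G) : Set G)) : ZMod p) = (T.index : ZMod p) := by
  set Nm := Subgroup.normalizer ((P : Subgroup G) : Set G) with hNm
  have h1 : (Nm.index : ZMod p) = 1 := by
    rw [show Nm.index = Nat.card (Sylow p G) from P.card_eq_index_normalizer.symm, ← Nat.cast_one,
      ZMod.natCast_eq_natCast_iff]
    exact card_sylow_modEq_one p G
  have h2 : (Nm.relIndex T : ZMod p) = 1 := by
    have h := card_sylow_modEq_one p T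
    rw [(P.subtype hPT).card_eq_index_normalizer] at h
    change (Subgroup.normalizer (((P : Subgroup G).subgroupOf T : Subgroup T) : Set T)).index ≡ 1 [MOD p] at h
    rw [← Nat.cast_one, ZMod.natCast_eq_natCast_iff]
    rw [show Nm.relIndex T = (Nm.subgroupOf T).index from rfl, hNm,
      Subgroup.subgroupOf_normalizer_eq hPT]
    exact h
  have e1 : (T ⊓ Nm).index = T.relIndex Nm * Nm.index := by
    rw [← Subgroup.relIndex_mul_index (inf_le_right : T ⊓ Nm ≤ Nm), Subgroup.inf_relIndex_right]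
  have e2 : (T ⊓ Nm).index = Nm.relIndex T * T.index := by
    rw [← Subgroup.relIndex_mul_index (inf_le_left : T ⊓ Nm ≤ T), Subgroup.inf_relIndex_left]
  have e := congrArg (Nat.cast (R := ZMod p)) (e1.symm.trans e2)
  rwa [Nat.cast_mul, Nat.cast_mul, h1, h2, mul_one, one_mul] at e

set_option maxHeartbeats 1600000 in
theorem exists_real_mckay {G : Type u} [Group G] [Finite G] (hyp : Hyp p G) (P : Sylow p G) :
    ∃ f : RealIrr G → {ξ : IrrCharacter ↥(Subgroup.normalizer ((P : Subgroup G) : Set G)) //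
        (∀ n, conj ((ξ : ↥(Subgroup.normalizer ((P : Subgroup G) : Set G)) → ℂ) n) =
          (ξ : ↥(Subgroup.normalizer ((P : Subgroup G) : Set G)) → ℂ) n) ∧
        ¬ p ∣ charDegree (ξ : ↥(Subgroup.normalizer ((P : Subgroup G) : Set G)) → ℂ)},
      Function.Bijective f ∧ ∀ χ,
        (charDegree ((f χ).1 : ↥(Subgroup.normalizer ((P : Subgroup G) : Set G)) → ℂ) : ZMod p) =
            (charDegree (χ.1 : G → ℂ) : ZMod p) ∨
        (charDegree ((f χ).1 : ↥(Subgroup.normalizer ((P : Subgroup G) : Set G)) → ℂ) : ZMod p) =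
            -(charDegree (χ.1 : G → ℂ) : ZMod p) := by
  classical
  haveI := Fintype.ofFinite G
  set K := elemGen 2 G with hKdef
  haveI : K.Normal := elemGen_normal
  haveI := Fintype.ofFinite K
  have hodd : Odd K.index := odd_index_two
  set Nm := Subgroup.normalizer ((P : Subgroup G) : Set G) with hNm
  have hPN : (P : Subgroup G) ≤ Nm := Subgroup.le_normalizer
  haveI := Fintype.ofFinite Nm
  set C := K.subgroupOf Nm with hC
  haveI : C.Normal := Subgroup.Normal.subgroupOf inferInstance Nm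
  haveI := Fintype.ofFinite C
  have hoddC : Odd C.index := hodd.of_dvd_nat (Subgroup.relIndex_dvd_index_of_normal K Nm)
  haveI : (pCore p G).Normal := PReduced.pCore_normal p G
  set Q := (pCore p G).subgroupOf K with hQdef
  haveI : Q.Normal := Subgroup.Normal.subgroupOf inferInstance K
  have hidx : ¬ p ∣ Q.index :=
    not_dvd_relIndex_pCore hyp K le_rfl ⟨0, by rw [pow_zero, Subgroup.relIndex_self]⟩
  have hQp : IsPGroup p Q := (PReduced.isPGroup_pCore (G := G) p).comap_subtype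
  have hPK : ∀ k : K, (k : G) ∈ (P : Subgroup G) → k ∈ Q := fun k hk => by
    obtain ⟨j, hj⟩ := IsPGroup.iff_orderOf.mp P.2 ⟨_, hk⟩
    rw [Subgroup.orderOf_mk, Subgroup.orderOf_coe] at hj
    rw [← QuotientGroup.eq_one_iff, ← orderOf_eq_one_iff]
    refine Nat.eq_one_of_dvd_coprimes ((hp.out.coprime_iff_not_dvd.mpr hidx).pow_left j) ?_ ?_
    · exact hj ▸ orderOf_map_dvd (QuotientGroup.mk' Q) k
    · rw [Subgroup.index_eq_card]; exact orderOf_dvd_natCard _
  let ψK : G →* MulAut K := MulAut.conjNormal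
  let ψC : Nm →* MulAut C := MulAut.conjNormal
  let φ : (P : Subgroup G) →* MulAut K := ψK.comp (P : Subgroup G).subtype
  let φC : (P : Subgroup G) →* MulAut C := ψC.comp (Subgroup.inclusion hPN)
  let ι : C →* K :=
    { toFun := fun c => ⟨((c : Nm) : G), c.2⟩
      map_one' := rfl
      map_mul' := fun _ _ => rfl }
  have hψK : ∀ (g : G) (k : K), ((ψK g k : K) : G) = g * k * g⁻¹ := MulAut.conjNormal_apply
  have hcompat : ∀ (n : Nm) (c : C), ψK (n : G) (ι c) = ι (ψC n c) := fun n c => Subtype.ext (by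
    rw [hψK]
    show _ = (((MulAut.conjNormal n c : C) : Nm) : G)
    rw [MulAut.conjNormal_apply]
    rfl)
  have hS : Setting p φ φC ι Q :=
    { pgroup := P.2
      stable := fun s q hq => by
        show ((ψK (s : G) q : K) : G) ∈ pCore p G
        rw [hψK]
        exact (inferInstance : (pCore p G).Normal).conj_mem _ hq _
      pQ := hQp
      idx := hidx
      inj := fun a b h => Subtype.ext (Subtype.ext (congrArg (fun k : K => (k : G)) h))
      range := fun k => by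
        refine ⟨?_, fun h => ?_⟩
        · rintro ⟨c, rfl⟩ s
          refine hPK _ ?_
          show ((ψK (s : G) (ι c) : K) : G) * ((ι c : K) : G)⁻¹ ∈ (P : Subgroup G)
          rw [hψK, show ((ι c : K) : G) = ((c : Nm) : G) from rfl, show (s : G) * ((c : Nm) : G) * (s : G)⁻¹ * ((c : Nm) : G)⁻¹ =
            s * (((c : Nm) : G) * (s : G)⁻¹ * ((c : Nm) : G)⁻¹) by group]
          exact (P : Subgroup G).mul_mem s.2
            ((Subgroup.mem_normalizer_iff.mp (c : Nm).2 _).mp ((P : Subgroup G).inv_mem s.2))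
        · have hkN : (k : G) ∈ Nm := by
            refine Coprime.mem_normalizer_of_forall fun x hx => ?_
            have h1 : ((ψK x⁻¹ k : K) : G) * (k : G)⁻¹ ∈ pCore p G :=
              h ⟨x⁻¹, (P : Subgroup G).inv_mem hx⟩
            rw [hψK, inv_inv] at h1
            have h2 := (P : Subgroup G).mul_mem hx (PReduced.pCore_le_sylow P h1)
            rwa [← mul_assoc, ← mul_assoc, ← mul_assoc, mul_inv_cancel, one_mul] at h2
          exact ⟨⟨⟨k, hkN⟩, k.2⟩, rfl⟩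
      comm := fun s c => (hcompat (Subgroup.inclusion hPN s) c).symm }
  -- fixedness
  have hfixK : ∀ {θ : K → ℂ}, IsFixed φ θ ↔ (P : Subgroup G) ≤ CharApp.inertia K θ := by
    intro θ
    refine ⟨fun h s hs => ?_, fun h s k => ?_⟩
    · rw [CharApp.mem_inertia_iff]
      intro k
      exact Eq.trans (congrArg θ (Subtype.ext (hψK s k).symm)) (h ⟨s, hs⟩ k)
    · show θ (ψK (s : G) k) = θ k
      exact Eq.trans (congrArg θ (Subtype.ext (hψK (s : G) k)))
        ((CharApp.mem_inertia_iff K).mp (h s.2) k)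
  have hfixmove : ∀ (n : Nm) {θ : K → ℂ}, IsFixed φ θ →
      IsFixed φ (fun k => θ (ψK (n : G)⁻¹ k)) := by
    intro n θ h s k
    let s' : (P : Subgroup G) := ⟨(n : G)⁻¹ * s * n,
      by simpa using (Subgroup.mem_normalizer_iff.mp (Nm.inv_mem n.2) s).mp s.2⟩
    show θ (ψK (n : G)⁻¹ (φ s k)) = θ (ψK (n : G)⁻¹ k)
    rw [← h s' (ψK (n : G)⁻¹ k)]
    refine congrArg θ (Subtype.ext ?_)
    show ((ψK (n : G)⁻¹ (ψK (s : G) k) : K) : G) = ((ψK (s' : G) (ψK (n : G)⁻¹ k) : K) : G)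
    simp only [hψK, s']
    group
  have hfixmoveC : ∀ (n : Nm) {β : C → ℂ}, IsFixed φC β →
      IsFixed φC (fun c => β (ψC n⁻¹ c)) := by
    intro n β h s c
    let s' : (P : Subgroup G) := ⟨(n : G)⁻¹ * s * n,
      by simpa using (Subgroup.mem_normalizer_iff.mp (Nm.inv_mem n.2) s).mp s.2⟩
    show β (ψC n⁻¹ (φC s c)) = β (ψC n⁻¹ c)
    rw [← h s' (ψC n⁻¹ c)]
    have e : n⁻¹ * Subgroup.inclusion hPN s = Subgroup.inclusion hPN s' * n⁻¹ := Subtype.ext (by
      show (n : G)⁻¹ * s = (n : G)⁻¹ * s * n * (n : G)⁻¹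
      group)
    show β (ψC n⁻¹ (ψC (Subgroup.inclusion hPN s) c)) = β (ψC (Subgroup.inclusion hPN s') (ψC n⁻¹ c))
    rw [← MulAut.mul_apply, ← map_mul, e, map_mul, MulAut.mul_apply]
  have hrm : ∀ (n : Nm) (θ : K → ℂ) (β : C → ℂ),
      rm ι (fun k => θ (ψK (n : G)⁻¹ k)) (fun c => β (ψC n⁻¹ c)) = rm ι θ β := fun n θ β =>
    rm_compat (ψK (n : G)⁻¹) (ψC n⁻¹) (fun c => hcompat n⁻¹ c) θ β
  -- the real correspondent
  have hfwd : ∀ θ : RealIrr K, IsFixed φ (θ.1 : K → ℂ) → ∃ β : RealIrr C,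
      IsFixed φC (β.1 : C → ℂ) ∧ ¬ p ∣ rm ι (θ.1 : K → ℂ) (β.1 : C → ℂ) ∧
      (∀ ξ : C → ℂ, IsIrrCharacter C ξ → IsFixed φC ξ → ¬ p ∣ rm ι (θ.1 : K → ℂ) ξ →
        ξ = (β.1 : C → ℂ)) ∧
      ∀ n d : ℕ, (θ.1 : K → ℂ) 1 = n → (β.1 : C → ℂ) 1 = d →
        (n : ZMod p) = d ∨ (n : ZMod p) = -d := by
    intro θ hθf
    obtain ⟨ξ, h1, h2, h3, h4⟩ := hS.forward θ.1.2 hθf
    have hnd : ¬ p ∣ rm ι (θ.1 : K → ℂ) ξ := by
      intro hd
      have h0 : ((rm ι (θ.1 : K → ℂ) ξ : ℤ)) ≡ 0 [ZMOD p] :=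
        Int.modEq_zero_iff_dvd.mpr (Int.natCast_dvd_natCast.mpr hd)
      have h5 : (p : ℤ) ∣ 1 := by
        rcases h3 with h | h
        · exact Int.modEq_zero_iff_dvd.mp (h.symm.trans h0)
        · exact Int.dvd_neg.mp (Int.modEq_zero_iff_dvd.mp (h.symm.trans h0))
      exact hp.out.not_dvd_one (Int.natCast_dvd_natCast.mp h5)
    have huniq : ∀ ξ' : C → ℂ, IsIrrCharacter C ξ' → IsFixed φC ξ' →
        ¬ p ∣ rm ι (θ.1 : K → ℂ) ξ' → ξ' = ξ := fun ξ' a b c => by
      by_contra hne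
      exact c (h4 ξ' a b hne)
    have hreal : (fun c => conj (ξ c)) = ξ :=
      huniq _ (IsIrrCharacter.conj h1) (fun s c => congrArg conj (h2 s c)) (by rwa [rm_conj θ.2])
    refine ⟨⟨⟨ξ, h1⟩, fun c => congrFun hreal c⟩, h2, hnd, huniq, fun n d hn hd => ?_⟩
    have h5 := hS.degree_modEq θ.1.2 hθf h1 h2 h4 hn hd
    rcases h3 with h | h
    · left
      have h6 := (ZMod.intCast_eq_intCast_iff _ _ p).mpr h
      push_cast at h6
      rw [h5, h6, one_mul]
    · right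
      have h6 := (ZMod.intCast_eq_intCast_iff _ _ p).mpr h
      push_cast at h6
      rw [h5, h6, neg_one_mul]
  choose B hBf hBnd hBu hBdeg using hfwd
  have hbwd : ∀ (θ θ' : RealIrr K) (β : C → ℂ), IsIrrCharacter C β → IsFixed φC β →
      IsFixed φ (θ.1 : K → ℂ) → IsFixed φ (θ'.1 : K → ℂ) →
      ¬ p ∣ rm ι (θ.1 : K → ℂ) β → ¬ p ∣ rm ι (θ'.1 : K → ℂ) β → θ = θ' := by
    intro θ θ' β hβ hβf h h' hd hd'
    obtain ⟨χ0, -, -, -, hu⟩ := hS.backward hβ hβf
    exact Subtype.ext (Subtype.ext ((hu _ θ.1.2 h hd).trans (hu _ θ'.1.2 h' hd').symm))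
  -- moving by the normalizer
  let actK := realIrrAction ψK
  let actC := realIrrAction ψC
  have hmove : ∀ (n : Nm) (θ : RealIrr K) (h : IsFixed φ (θ.1 : K → ℂ))
      (h' : IsFixed φ ((actK.smul (n : G) θ).1 : K → ℂ)),
      B (actK.smul (n : G) θ) h' = actC.smul n (B θ h) := by
    intro n θ h h'
    refine Subtype.ext (Subtype.ext ((hBu _ h' _ (actC.smul n (B θ h)).1.2
      (hfixmoveC n (hBf θ h)) ?_).symm))
    show ¬ p ∣ rm ι (fun k => (θ.1 : K → ℂ) (ψK (n : G)⁻¹ k))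
      (fun c => ((B θ h).1 : C → ℂ) (ψC n⁻¹ c))
    rw [hrm]
    exact hBnd θ h
  -- inertia groups correspond
  have hinert : ∀ (θ : RealIrr K) (h : IsFixed φ (θ.1 : K → ℂ)),
      CharApp.inertia C ((B θ h).1 : C → ℂ) = (CharApp.inertia K (θ.1 : K → ℂ)).subgroupOf Nm := by
    intro θ h
    ext n
    rw [Subgroup.mem_subgroupOf]
    refine ⟨fun hn => ?_, fun hn => ?_⟩
    · have h1 : actC.smul n (B θ h) = B θ h := Subtype.ext (Subtype.ext hn)
      have h2 := hbwd (actK.smul (n : G) θ) θ _ (B θ h).1.2 (hBf θ h) (hfixmove n h) h (by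
        rw [← h1, ← hmove n θ h (hfixmove n h)]
        exact hBnd _ _) (hBnd θ h)
      exact congrArg (fun t : RealIrr K => (t.1 : K → ℂ)) h2
    · have h1 : actK.smul (n : G) θ = θ := Subtype.ext (Subtype.ext hn)
      have h2 : actC.smul n (B θ h) = B θ h := by
        rw [← hmove n θ h (hfixmove n h)]
        congr 1
      exact congrArg (fun t : RealIrr C => (t.1 : C → ℂ)) h2
  -- a fixed real constituent
  have hsel : ∀ χ : RealIrr G, ∃ θ : RealIrr K, IsFixed φ (θ.1 : K → ℂ) ∧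
      Over K (χ.1 : G → ℂ) (θ.1 : K → ℂ) := by
    intro χ
    obtain ⟨θ₀, hθ₀⟩ := exists_real_under K hodd χ.1 χ.2
    obtain ⟨d, -, hd⟩ := IsIrrCharacter.exists_degree θ₀.1.2
    have hTi : ¬ p ∣ (CharApp.inertia K (θ₀.1 : K → ℂ)).index := by
      intro hdv
      refine hyp.real χ.1 (fun g => Complex.conj_eq_iff_im.mp (χ.2 g)) ?_
      have h1 := real_degree K hodd θ₀.1.2 θ₀.2 χ.1.2 χ.2 hθ₀
      rw [hd, ← Blocks.charDegree_cast χ.1, ← Nat.cast_mul] at h1
      rw [Nat.cast_inj.mp h1]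
      exact dvd_mul_of_dvd_left hdv _
    set T := CharApp.inertia K (θ₀.1 : K → ℂ) with hT
    obtain ⟨q, hq⟩ := P.2.nonempty_fixed_point_of_prime_not_dvd_card (G ⧸ T)
      (by rwa [← Subgroup.index_eq_card])
    obtain ⟨g, rfl⟩ := QuotientGroup.mk_surjective q
    refine ⟨actK.smul g θ₀, fun s k => ?_, ?_⟩
    · have h0 : (((s : G) * g : G) : G ⧸ T) = (g : G ⧸ T) := hq s
      have hs : g⁻¹ * (s : G) * g ∈ T := by
        have h := QuotientGroup.eq.mp h0.symm
        rwa [← mul_assoc] at h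
      show (θ₀.1 : K → ℂ) (ψK g⁻¹ (φ s k)) = (θ₀.1 : K → ℂ) (ψK g⁻¹ k)
      rw [← (CharApp.mem_inertia_iff K).mp hs (ψK g⁻¹ k)]
      refine congrArg (θ₀.1 : K → ℂ) (Subtype.ext ?_)
      show ((ψK g⁻¹ (ψK (s : G) k) : K) : G) = g⁻¹ * s * g * ((ψK g⁻¹ k : K) : G) * (g⁻¹ * s * g)⁻¹
      simp only [hψK]
      group
    · show classInner (fun n : K => (χ.1 : G → ℂ) n)
        (CliffordChar.conjFun K g (θ₀.1 : K → ℂ)) ≠ 0
      rw [CliffordChar.classInner_restrict_conjFun K (IsIrrCharacter.isClassFunction χ.1.2)]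
      exact hθ₀
  choose Θ hΘf hΘo using hsel
  -- the image
  have himg : ∀ χ : RealIrr G, ∃ ξ : IrrCharacter Nm, (∀ n, conj ((ξ : Nm → ℂ) n) = (ξ : Nm → ℂ) n) ∧
      ¬ p ∣ charDegree (ξ : Nm → ℂ) ∧ Over C (ξ : Nm → ℂ) ((B (Θ χ) (hΘf χ)).1 : C → ℂ) ∧
      ((charDegree (ξ : Nm → ℂ) : ZMod p) = (charDegree (χ.1 : G → ℂ) : ZMod p) ∨
        (charDegree (ξ : Nm → ℂ) : ZMod p) = -(charDegree (χ.1 : G → ℂ) : ZMod p)) := by
    intro χ
    set θ := Θ χ
    set hf := hΘf χ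
    obtain ⟨ξ, hξr, hξo⟩ := exists_real_over C hoddC (B θ hf).1.2 (B θ hf).2
    have hξc : ∀ n, conj ((ξ : Nm → ℂ) n) = (ξ : Nm → ℂ) n :=
      fun n => Complex.conj_eq_iff_im.mpr (hξr n)
    obtain ⟨a, -, ha⟩ := IsIrrCharacter.exists_degree θ.1.2
    obtain ⟨b, -, hb⟩ := IsIrrCharacter.exists_degree (B θ hf).1.2
    have h1 := real_degree K hodd θ.1.2 θ.2 χ.1.2 χ.2 (hΘo χ)
    rw [ha, ← Blocks.charDegree_cast χ.1, ← Nat.cast_mul] at h1
    have h2 := real_degree C hoddC (B θ hf).1.2 (B θ hf).2 ξ.2 hξc hξo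
    rw [hb, ← Blocks.charDegree_cast ξ, hinert θ hf, ← Nat.cast_mul] at h2
    have hcast : (charDegree (ξ : Nm → ℂ) : ZMod p) =
        ((CharApp.inertia K (θ.1 : K → ℂ)).index : ZMod p) * (b : ZMod p) := by
      rw [Nat.cast_inj.mp h2, Nat.cast_mul, ← relIndex_normalizer_cast P (hfixK.mp hf)]
      rfl
    have hcastG : (charDegree (χ.1 : G → ℂ) : ZMod p) =
        ((CharApp.inertia K (θ.1 : K → ℂ)).index : ZMod p) * (a : ZMod p) := by
      rw [Nat.cast_inj.mp h1, Nat.cast_mul]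
    have hpm : (charDegree (ξ : Nm → ℂ) : ZMod p) = (charDegree (χ.1 : G → ℂ) : ZMod p) ∨
        (charDegree (ξ : Nm → ℂ) : ZMod p) = -(charDegree (χ.1 : G → ℂ) : ZMod p) := by
      rcases hBdeg θ hf a b ha hb with h | h
      · left; rw [hcast, hcastG, h]
      · right; rw [hcast, hcastG, h, mul_neg, neg_neg]
    refine ⟨ξ, hξc, fun hd => ?_, hξo, hpm⟩
    have hd0 := (ZMod.natCast_eq_zero_iff _ _).mpr hd
    refine hyp.real χ.1 (fun g => Complex.conj_eq_iff_im.mp (χ.2 g))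
      ((ZMod.natCast_eq_zero_iff _ _).mp ?_)
    rcases hpm with h | h
    · rw [← h, hd0]
    · rw [hd0] at h; exact neg_eq_zero.mp h.symm
  choose F hFr hFd hFo hFdeg using himg
  refine ⟨fun χ => ⟨F χ, hFr χ, hFd χ⟩, ⟨fun χ₁ χ₂ h => ?_, fun ξ => ?_⟩, hFdeg⟩
  · have hF : F χ₁ = F χ₂ := congrArg Subtype.val h
    obtain ⟨n, hn⟩ := CliffordChar.constituents_conjugate C (F χ₁).2 (B _ (hΘf χ₁)).1.2
      (B _ (hΘf χ₂)).1.2 (hFo χ₁) (hF ▸ hFo χ₂)
    have h1 : actC.smul n (B _ (hΘf χ₁)) = B _ (hΘf χ₂) := Subtype.ext (Subtype.ext hn)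
    have h2 : actK.smul (n : G) (Θ χ₁) = Θ χ₂ :=
      hbwd _ _ _ (B _ (hΘf χ₂)).1.2 (hBf _ _) (hfixmove n (hΘf χ₁)) (hΘf χ₂) (by
        rw [← h1, ← hmove n _ (hΘf χ₁) (hfixmove n (hΘf χ₁))]
        exact hBnd _ _) (hBnd _ _)
    refine (real_over_aux K hodd).1 (Θ χ₂) χ₁ χ₂ ?_ (hΘo χ₂)
    rw [← h2]
    show classInner (fun m : K => (χ₁.1 : G → ℂ) m)
      (CliffordChar.conjFun K (n : G) ((Θ χ₁).1 : K → ℂ)) ≠ 0
    rw [CliffordChar.classInner_restrict_conjFun K (IsIrrCharacter.isClassFunction χ₁.1.2)]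
    exact hΘo χ₁
  · obtain ⟨ξ, hξr, hξd⟩ := ξ
    obtain ⟨β, hβ⟩ := exists_real_under C hoddC ξ hξr
    have hβf : IsFixed φC (β.1 : C → ℂ) := by
      obtain ⟨b, -, hb⟩ := IsIrrCharacter.exists_degree β.1.2
      have h1 := real_degree C hoddC β.1.2 β.2 ξ.2 hξr hβ
      rw [hb, ← Blocks.charDegree_cast ξ, ← Nat.cast_mul] at h1
      rw [Nat.cast_inj.mp h1] at hξd
      set P' := (P : Subgroup G).subgroupOf Nm with hP'
      haveI : P'.Normal := Subgroup.normal_in_normalizer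
      obtain ⟨k, hk⟩ := IsPGroup.iff_card.mp P.2
      have hle : P' ≤ CharApp.inertia C (β.1 : C → ℂ) := by
        refine Subgroup.relIndex_eq_one.mp (Nat.eq_one_of_dvd_coprimes
          ((hp.out.coprime_iff_not_dvd.mpr fun h => hξd (h.mul_right b)).pow_left k) ?_
          (PReduced.relIndex_dvd_index_of_right_normal _ P'))
        rw [← hk, ← Nat.card_congr (Subgroup.subgroupOfEquivOfLe hPN).toEquiv]
        exact Subgroup.relIndex_dvd_card _ P'
      intro s c
      have h2 := (CharApp.mem_inertia_iff C).mp (hle (show Subgroup.inclusion hPN s ∈ P' from s.2)) c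
      exact Eq.trans (congrArg (β.1 : C → ℂ)
        (Subtype.ext (MulAut.conjNormal_apply (Subgroup.inclusion hPN s) c))) h2
    obtain ⟨θ0, hθ0, hθ0f, hθ0d, hθ0u⟩ := hS.backward β.1.2 hβf
    have hθ0r : (fun k => conj (θ0 k)) = θ0 := by
      refine hθ0u _ (IsIrrCharacter.conj hθ0) (fun s k => congrArg conj (hθ0f s k)) ?_
      have e : rm ι (fun k => conj (θ0 k)) (β.1 : C → ℂ) = rm ι θ0 (β.1 : C → ℂ) := by
        unfold RelGlauber.rm
        rw [show classInner (fun c : C => conj (θ0 (ι c))) (β.1 : C → ℂ) =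
          conj (classInner (fun c : C => θ0 (ι c)) (β.1 : C → ℂ)) by
            simp only [classInner, map_mul, map_inv₀, map_natCast, map_sum, β.2],
          Complex.conj_re]
      rwa [e]
    let θ : RealIrr K := ⟨⟨θ0, hθ0⟩, fun k => congrFun hθ0r k⟩
    obtain ⟨χ, hχr, hχo⟩ := exists_real_over K hodd θ.1.2 θ.2
    let χ' : RealIrr G := ⟨χ, fun g => Complex.conj_eq_iff_im.mpr (hχr g)⟩
    refine ⟨χ', ?_⟩
    have hβB : β = B θ hθ0f := Subtype.ext (Subtype.ext (hBu θ hθ0f _ β.1.2 hβf hθ0d))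
    obtain ⟨g, hg⟩ := CliffordChar.constituents_conjugate K χ.2 θ.1.2 (Θ χ').1.2 hχo (hΘo χ')
    -- choose the conjugating element in the normalizer
    set T := CharApp.inertia K ((Θ χ').1 : K → ℂ) with hT
    have hPT : (P : Subgroup G) ≤ T := hfixK.mp (hΘf χ')
    have hPT' : ((g • P : Sylow p G) : Subgroup G) ≤ T := by
      intro s hs
      rw [Sylow.coe_subgroup_smul, Solvable.mem_conj_iff] at hs
      have h3 : CliffordChar.conjFun K (g⁻¹ * s * g) (θ.1 : K → ℂ) = (θ.1 : K → ℂ) := hfixK.mp hθ0f hs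
      show CliffordChar.conjFun K s ((Θ χ').1 : K → ℂ) = ((Θ χ').1 : K → ℂ)
      calc CliffordChar.conjFun K s ((Θ χ').1 : K → ℂ)
          = CliffordChar.conjFun K (g * (g⁻¹ * s * g)) (θ.1 : K → ℂ) := by
            rw [← hg, ← CliffordChar.conjFun_mul]
            congr 1; group
        _ = ((Θ χ').1 : K → ℂ) := by rw [CliffordChar.conjFun_mul, h3, hg]
    obtain ⟨d, hd⟩ := MulAction.exists_smul_eq T ((g • P).subtype hPT') (P.subtype hPT)
    rw [Sylow.smul_subtype] at hd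
    have hd' : (d : G) • g • P = P := Sylow.subtype_injective hd
    rw [← mul_smul, Sylow.smul_eq_iff_mem_normalizer] at hd'
    set n : Nm := ⟨_, hd'⟩ with hn
    have h1 : actK.smul (n : G) θ = Θ χ' := Subtype.ext (Subtype.ext (by
      show CliffordChar.conjFun K ((d : G) * g) (θ.1 : K → ℂ) = _
      rw [CliffordChar.conjFun_mul, hg]
      exact d.2))
    have h2 : actC.smul n β = B (Θ χ') (hΘf χ') := by
      rw [hβB, ← hmove n θ hθ0f (hfixmove n hθ0f)]
      congr 1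
    refine Subtype.ext (congrArg (fun t : RealIrr Nm => t.1)
      ((real_over_aux C hoddC).1 (B (Θ χ') (hΘf χ')) ⟨F χ', hFr χ'⟩ ⟨ξ, hξr⟩ (hFo χ') ?_))
    rw [← h2]
    show classInner (fun c : C => (ξ : Nm → ℂ) c) (CliffordChar.conjFun C n (β.1 : C → ℂ)) ≠ 0
    rw [CliffordChar.classInner_restrict_conjFun C (IsIrrCharacter.isClassFunction ξ.2)]
    exact hβ

end Cfsg.Agent.RealDeg
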