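/-
Real characters of degree prime to `p`: real elements normalize a Sylow `p`-subgroup up to conjugacy
(namespace `Cfsg.Agent.RealDeg`).

* `exists_commuting_conj` : the case `O_p(G) = 1`
* `exists_normalizing_conj` : the general case
-/
import Cfsg.Agent.Lib.RealDeg.NormalSylow
import Cfsg.Agent.Lib.RealDeg.Orbits
import Cfsg.Agent.Lib.GlauberChar.Solvable

set_option autoImplicit false
set_option linter.style.haveILetI false

namespace Cfsg.Agent.RealDeg

open Cfsg Cfsg.Agent.Char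
open Cfsg.Agent.GlauberChar (fixedSub IsFixed mult restrictAct)
open scoped ComplexConjugate Pointwise

universe u

variable {p : ℕ} [hp : Fact p.Prime]

/-- Elements of `K` that normalize `P` commute with it if `K` has order prime to `p`. -/
theorem mem_fixedSub_of_normalizes {G : Type*} [Group G] [Finite G] (K : Subgroup G) [K.Normal]
    (hK : ¬ p ∣ Nat.card K) (P : Sylow p G) {k : K}
    (hk : (k : G) ∈ Subgroup.normalizer ((P : Subgroup G) : Set G)) :
    k ∈ fixedSub (MulAut.conjNormal.comp (P : Subgroup G).subtype : (P : Subgroup G) →* MulAut K) := by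
  intro s
  obtain ⟨b, hb⟩ := IsPGroup.iff_card.mp P.2
  have h1 : (s : G) * k * (s : G)⁻¹ * (k : G)⁻¹ ∈ (P : Subgroup G) ⊓ K := by
    refine ⟨?_, K.mul_mem ((inferInstance : K.Normal).conj_mem _ k.2 s) (K.inv_mem k.2)⟩
    rw [show (s : G) * k * (s : G)⁻¹ * (k : G)⁻¹ = s * (k * (s : G)⁻¹ * (k : G)⁻¹) by group]
    exact (P : Subgroup G).mul_mem s.2
      ((Subgroup.mem_normalizer_iff.mp hk _).mp ((P : Subgroup G).inv_mem s.2))
  rw [Solvable.inf_eq_bot_of_coprime (hb ▸ (hp.out.coprime_iff_not_dvd.mpr hK).pow_left b),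
    Subgroup.mem_bot, mul_inv_eq_one] at h1
  refine Subtype.ext ?_
  show ((MulAut.conjNormal (s : G) k : K) : G) = k
  rw [MulAut.conjNormal_apply]
  exact h1

theorem classInner_compat {K : Type*} [Group K] {C : Subgroup K} [Fintype C] (α : MulAut K)
    (β₀ : MulAut C) (h : ∀ c : C, α (c : K) = ((β₀ c : C) : K)) (θ : K → ℂ) (β : C → ℂ) :
    classInner (fun c : C => θ (α c)) (fun c => β (β₀ c)) = classInner (fun c : C => θ c) β := by
  simp only [h]
  exact classInner_comp_equiv β₀ (fun c : C => θ c) β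

set_option maxHeartbeats 1000000 in
theorem exists_commuting_conj {G : Type u} [Group G] [Finite G] (hyp : Hyp p G)
    (hO : pCore p G = ⊥) (P : Sylow p G) {x : G} (hx : IsConj x x⁻¹) :
    ∃ y ∈ Subgroup.normalizer ((P : Subgroup G) : Set G), IsConj x y := by
  classical
  haveI : Fact (Nat.Prime 2) := ⟨Nat.prime_two⟩
  haveI := Fintype.ofFinite G
  set K := elemGen 2 G with hKdef
  haveI : K.Normal := elemGen_normal
  haveI := Fintype.ofFinite K
  have hKp : ¬ p ∣ Nat.card K := by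
    have h := not_dvd_relIndex_pCore hyp K le_rfl ⟨0, by rw [pow_zero, Subgroup.relIndex_self]⟩
    rwa [hO, Subgroup.relIndex_bot_left] at h
  set φ : (P : Subgroup G) →* MulAut K := MulAut.conjNormal.comp (P : Subgroup G).subtype with hφ
  set C := fixedSub φ with hC
  haveI := Fintype.ofFinite C
  set Nm := Subgroup.normalizer ((P : Subgroup G) : Set G) with hNm
  let ψK : G →* MulAut K := MulAut.conjNormal
  have hCinv : ∀ (n : Nm), ∀ c ∈ C, (ψK.comp Nm.subtype) n c ∈ C := by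
    intro n c hc
    refine mem_fixedSub_of_normalizes K hKp P ?_
    show ((MulAut.conjNormal (n : G) c : K) : G) ∈ Nm
    rw [MulAut.conjNormal_apply]
    refine Nm.mul_mem (Nm.mul_mem n.2 (Subgroup.mem_normalizer_iff.mpr fun t => ?_)) (Nm.inv_mem n.2)
    have hcomm : ∀ s ∈ (P : Subgroup G), (c : G) * s * (c : G)⁻¹ = s := fun s hs => by
      have h1 : ((MulAut.conjNormal s c : K) : G) = c := congrArg Subtype.val (hc ⟨s, hs⟩)
      rw [MulAut.conjNormal_apply, mul_inv_eq_iff_eq_mul] at h1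
      rw [← h1, mul_inv_cancel_right]
    refine ⟨fun ht => (hcomm t ht).symm ▸ ht, fun ht => ?_⟩
    have h2 := hcomm _ ht
    rw [mul_left_inj, mul_right_inj] at h2
    exact h2 ▸ ht
  let ψC : Nm →* MulAut C := restrictAct (ψK.comp Nm.subtype) C hCinv
  -- elements act with odd order modulo inner automorphisms
  have hodd : ∀ g : G, ∃ m, Odd m ∧ g ^ m ∈ K :=
    fun g => ⟨K.index, odd_index_two, K.pow_index_mem g⟩
  have hinK : ∀ g : G, ∃ m, Odd m ∧ ∀ a : K, IsConj (ψK (g ^ m) a) a := fun g => by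
    obtain ⟨m, hm, hgm⟩ := hodd g
    exact ⟨m, hm, fun a => (isConj_iff.mpr ⟨⟨g ^ m, hgm⟩, Subtype.ext (MulAut.conjNormal_apply (g ^ m) a).symm⟩ : IsConj a (ψK (g ^ m) a)).symm⟩
  have hinC : ∀ n : Nm, ∃ m, Odd m ∧ ∀ c : C, IsConj (ψC (n ^ m) c) c := fun n => by
    obtain ⟨m, hm, hgm⟩ := hodd (n : G)
    have hk : (⟨(n : G) ^ m, hgm⟩ : K) ∈ C :=
      mem_fixedSub_of_normalizes K hKp P (Nm.pow_mem n.2 m)
    exact ⟨m, hm, fun c => (isConj_iff.mpr ⟨⟨_, hk⟩, Subtype.ext (Subtype.ext (by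
      show (n : G) ^ m * ((c : K) : G) * ((n : G) ^ m)⁻¹ =
        ((MulAut.conjNormal ((n ^ m : Nm) : G) (c : K) : K) : G)
      rw [MulAut.conjNormal_apply, SubmonoidClass.coe_pow]))⟩ : IsConj c (ψC (n ^ m) c)).symm⟩
  letI actK := realIrrAction ψK
  letI actK' := realClassAction ψK
  letI actC := realIrrAction ψC
  letI actC' := realClassAction ψC
  have hA : Nat.card (MulAction.orbitRel.Quotient G (RealIrr K)) =
      Nat.card (MulAction.orbitRel.Quotient G (RealClass K)) := card_orbits_eq ψK hinK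
  have hB : Nat.card (MulAction.orbitRel.Quotient Nm (RealIrr C)) =
      Nat.card (MulAction.orbitRel.Quotient Nm (RealClass C)) := card_orbits_eq ψC hinC
  haveI := Fintype.ofFinite (IrrCharacter C)
  -- a fixed character in every orbit
  have hsel : ∀ o : MulAction.orbitRel.Quotient G (RealIrr K), ∃ θ : RealIrr K, ∃ β : RealIrr C,
      Quotient.mk'' θ = o ∧ IsFixed φ (θ.1 : K → ℂ) ∧ ¬ p ∣ mult φ (θ.1 : K → ℂ) (β.1 : C → ℂ) := by
    intro o
    induction o using Quotient.inductionOn' with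
    | h θ₀ =>
      obtain ⟨χ, hχr, hχθ⟩ := exists_real_over K odd_index_two θ₀.1.2 θ₀.2
      set T := CharApp.inertia K (θ₀.1 : K → ℂ) with hT
      have hTi : ¬ p ∣ T.index := by
        intro hd
        refine hyp.real χ hχr ?_
        obtain ⟨a, ha⟩ := IsCharacter.classInner_nat
          (IsCharacter.restrict (IsIrrCharacter.isCharacter χ.2) K)
          (IsIrrCharacter.isCharacter θ₀.1.2)
        obtain ⟨d, -, hd'⟩ := IsIrrCharacter.exists_degree θ₀.1.2
        have h1 := CharApp.restrict_degree K χ.2 θ₀.1.2 hχθ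
        rw [ha, hd', ← Blocks.charDegree_cast χ] at h1
        have h2 : charDegree (χ : G → ℂ) = a * T.index * d := by exact_mod_cast h1
        rw [h2]
        exact dvd_mul_of_dvd_left (dvd_mul_of_dvd_right hd _) _
      obtain ⟨q, hq⟩ := P.2.nonempty_fixed_point_of_prime_not_dvd_card (G ⧸ T)
        (by rwa [← Subgroup.index_eq_card])
      obtain ⟨g, rfl⟩ := QuotientGroup.mk_surjective q
      have hfix : IsFixed φ ((g • θ₀).1 : K → ℂ) := by
        intro s a
        have hs : g⁻¹ * (s : G) * g ∈ T := by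
          have h0 : (((s : G) * g : G) : G ⧸ T) = (g : G ⧸ T) := hq s
          have h := QuotientGroup.eq.mp h0.symm
          rwa [← mul_assoc] at h
        show (θ₀.1 : K → ℂ) (ψK g⁻¹ (φ s a)) = (θ₀.1 : K → ℂ) (ψK g⁻¹ a)
        rw [← (CharApp.mem_inertia_iff K).mp hs (ψK g⁻¹ a)]
        refine congrArg (θ₀.1 : K → ℂ) (Subtype.ext ?_)
        simp only [ψK, hφ, MonoidHom.coe_comp, Function.comp_apply, Subgroup.coe_subtype,
          MulAut.conjNormal_apply]
        group
      obtain ⟨β, hβ⟩ := GlauberChar.exists_irr_of_fixed φ hKp (g • θ₀).1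
      let βbar : IrrCharacter C := ⟨fun c => conj ((β : C → ℂ) c), IsIrrCharacter.conj β.2⟩
      have hβbar : ¬ p ∣ mult φ ((g • θ₀).1 : K → ℂ) (βbar : C → ℂ) := by
        obtain ⟨m, hm⟩ := IsCharacter.classInner_nat
          (IsCharacter.restrict (IsIrrCharacter.isCharacter (g • θ₀).1.2) C)
          (IsIrrCharacter.isCharacter β.2)
        have hm' : classInner (fun c : C => ((g • θ₀).1 : K → ℂ) c) (βbar : C → ℂ) = (m : ℂ) := by
          rw [← Complex.conj_natCast m, ← hm]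
          simp only [classInner, map_mul, map_inv₀, map_natCast, map_sum, (g • θ₀).2]
          rfl
        rw [GlauberChar.mult_eq_of_classInner φ hm']
        rwa [GlauberChar.mult_eq_of_classInner φ hm] at hβ
      have heq : βbar = β := GlauberChar.irr_unique φ P.2 hKp hfix hβbar hβ
      exact ⟨g • θ₀, ⟨β, fun c => congrFun (congrArg Subtype.val heq) c⟩,
        Quotient.sound' ⟨g, rfl⟩, hfix, hβ⟩
  choose Θ Β hΘ hΘfix hΒ using hsel
  have hinj : Function.Injective (fun o => (Quotient.mk'' (Β o) :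
      MulAction.orbitRel.Quotient Nm (RealIrr C))) := by
    intro o₁ o₂ h
    obtain ⟨n, hn⟩ := Quotient.exact' h
    have hn' : n • Β o₂ = Β o₁ := hn
    have hfix' : IsFixed φ (((n : G) • Θ o₂).1 : K → ℂ) := by
      intro s a
      set s' : (P : Subgroup G) := ⟨(n : G)⁻¹ * s * n,
        by simpa using (Subgroup.mem_normalizer_iff.mp (Nm.inv_mem n.2) s).mp s.2⟩ with hs'
      show ((Θ o₂).1 : K → ℂ) (ψK (n : G)⁻¹ (φ s a)) = ((Θ o₂).1 : K → ℂ) (ψK (n : G)⁻¹ a)
      rw [← hΘfix o₂ s' (ψK (n : G)⁻¹ a)]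
      refine congrArg ((Θ o₂).1 : K → ℂ) (Subtype.ext ?_)
      simp only [ψK, hs', hφ, MonoidHom.coe_comp, Function.comp_apply, Subgroup.coe_subtype,
        MulAut.conjNormal_apply]
      group
    have hmult : ¬ p ∣ mult φ (((n : G) • Θ o₂).1 : K → ℂ) ((Β o₁).1 : C → ℂ) := by
      obtain ⟨m, hm⟩ := IsCharacter.classInner_nat
        (IsCharacter.restrict (IsIrrCharacter.isCharacter (Θ o₂).1.2) C)
        (IsIrrCharacter.isCharacter (Β o₂).1.2)
      have h2 := hΒ o₂
      rw [GlauberChar.mult_eq_of_classInner φ hm] at h2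
      have h3 := (classInner_compat (ψK (n : G)⁻¹) (ψC n⁻¹) (fun c => rfl)
        ((Θ o₂).1 : K → ℂ) ((Β o₂).1 : C → ℂ)).trans hm
      rw [← hn']
      show ¬ p ∣ mult φ (fun a : K => ((Θ o₂).1 : K → ℂ) (ψK (n : G)⁻¹ a))
        (fun c : C => ((Β o₂).1 : C → ℂ) (ψC n⁻¹ c))
      rw [GlauberChar.mult_eq_of_classInner φ h3]
      exact h2
    have h3 := GlauberChar.fixed_unique φ P.2 hKp ((n : G) • Θ o₂).1.2 (Θ o₁).1.2 hfix' (hΘfix o₁)
      (Β o₁).1.2 hmult (hΒ o₁)
    rw [← hΘ o₁, ← hΘ o₂]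
    exact Quotient.sound' ⟨(n : G), Subtype.ext (Subtype.ext h3)⟩
  have hle1 := Nat.card_le_card_of_injective _ hinj
  -- classes
  have hrep : ∀ o : MulAction.orbitRel.Quotient Nm (RealClass C), ∃ (c : C) (C' : RealClass C),
      C'.1 = ConjClasses.mk c ∧ Quotient.mk'' C' = o := by
    intro o
    induction o using Quotient.inductionOn' with
    | h C' =>
      obtain ⟨c, hc⟩ := ConjClasses.mk_surjective C'.1
      exact ⟨c, C', hc.symm, rfl⟩
  choose c C' hC' hCo using hrep
  let F : MulAction.orbitRel.Quotient Nm (RealClass C) → MulAction.orbitRel.Quotient G (RealClass K) :=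
    fun o => Quotient.mk'' ⟨ConjClasses.mk (c o : K), fun y hy => by
      have h1 : IsConj (c o : K) (c o : K)⁻¹ :=
        C.subtype.map_isConj ((C' o).2 (c o) (hC' o).symm)
      have h2 := ConjClasses.mk_eq_mk_iff_isConj.mp hy
      exact h2.trans (h1.trans (isConj_inv h2.symm))⟩
  have hFinj : Function.Injective F := by
    intro o₁ o₂ h
    obtain ⟨g, hg⟩ := Quotient.exact' h
    have h1 : IsConj (ψK g (c o₂ : K)) (c o₁ : K) :=
      ConjClasses.mk_eq_mk_iff_isConj.mp (congrArg Subtype.val hg)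
    obtain ⟨k, hk⟩ := isConj_iff.mp h1
    set g1 : G := (k : G) * g with hg1
    have hgc : g1 * ((c o₂ : K) : G) * g1⁻¹ = ((c o₁ : K) : G) := by
      rw [← hk, hg1]
      simp [ψK, MulAut.conjNormal_apply, mul_assoc]
    -- both `P` and `g₁ P g₁⁻¹` centralize `c₁`
    set D : Subgroup G := Subgroup.centralizer {((c o₁ : K) : G)} with hD
    have hPc : ∀ (a : C) (s : (P : Subgroup G)),
        (s : G) * ((a : K) : G) = ((a : K) : G) * s := fun a s => by
      have h1 : ((MulAut.conjNormal (s : G) (a : K) : K) : G) = (a : K) :=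
        congrArg Subtype.val (a.2 s)
      rwa [MulAut.conjNormal_apply, mul_inv_eq_iff_eq_mul] at h1
    have hPD : ((P : Sylow p G) : Subgroup G) ≤ D := fun s hs =>
      Subgroup.mem_centralizer_singleton_iff.mpr (hPc (c o₁) ⟨s, hs⟩)
    have hPD' : ((g1 • P : Sylow p G) : Subgroup G) ≤ D := by
      intro s hs
      rw [Sylow.coe_subgroup_smul, Solvable.mem_conj_iff] at hs
      rw [hD, Subgroup.mem_centralizer_singleton_iff, ← hgc]
      have h2 := hPc (c o₂) ⟨_, hs⟩
      calc s * (g1 * ((c o₂ : K) : G) * g1⁻¹)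
          = g1 * ((g1⁻¹ * s * g1) * ((c o₂ : K) : G)) * g1⁻¹ := by group
        _ = g1 * (((c o₂ : K) : G) * (g1⁻¹ * s * g1)) * g1⁻¹ := congrArg (fun t => g1 * t * g1⁻¹) h2
        _ = g1 * ((c o₂ : K) : G) * g1⁻¹ * s := by group
    obtain ⟨d, hd⟩ := MulAction.exists_smul_eq D ((g1 • P).subtype hPD') (P.subtype hPD)
    rw [Sylow.smul_subtype] at hd
    have hd' : (d : G) • g1 • P = P := Sylow.subtype_injective hd
    rw [← mul_smul, Sylow.smul_eq_iff_mem_normalizer] at hd'
    have hnc : (d : G) * g1 * ((c o₂ : K) : G) * ((d : G) * g1)⁻¹ = ((c o₁ : K) : G) := by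
      have h3 : (d : G) * ((c o₁ : K) : G) = ((c o₁ : K) : G) * d :=
        Subgroup.mem_centralizer_singleton_iff.mp d.2
      rw [show (d : G) * g1 * ((c o₂ : K) : G) * ((d : G) * g1)⁻¹ =
        (d : G) * (g1 * ((c o₂ : K) : G) * g1⁻¹) * (d : G)⁻¹ by group, hgc, h3,
        mul_inv_cancel_right]
    rw [← hCo o₁, ← hCo o₂]
    refine Quotient.sound' ⟨⟨_, hd'⟩, Subtype.ext ?_⟩
    show ConjClasses.map (ψC ⟨_, hd'⟩).toMonoidHom (C' o₂).1 = (C' o₁).1
    rw [hC' o₁, hC' o₂]
    refine congrArg ConjClasses.mk (Subtype.ext (Subtype.ext ?_))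
    simpa [ψC, ψK, MulAut.conjNormal_apply, mul_assoc] using hnc
  have hle2 := Nat.card_le_card_of_injective _ hFinj
  have hbij : Function.Bijective F := by
    refine (Nat.bijective_iff_injective_and_card F).mpr ⟨hFinj, ?_⟩
    exact le_antisymm hle2 ((hA.symm.le.trans hle1).trans hB.le)
  -- the element
  have hxK : x ∈ K := mem_elemGen_two_of_real hx
  have hxr : IsConj (⟨x, hxK⟩ : K) (⟨x, hxK⟩ : K)⁻¹ := by
    obtain ⟨y, hy⟩ := isConj_iff.mp hx
    obtain ⟨m, ⟨j, rfl⟩, hym⟩ := hodd y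
    have h2 : Commute (y * y) x := by
      have h3 : y * x⁻¹ * y⁻¹ = x := by
        have := congrArg (fun t => t⁻¹) hy
        simpa [mul_assoc] using this
      show y * y * x = x * (y * y)
      calc y * y * x = y * (y * x * y⁻¹) * y := by group
        _ = (y * x⁻¹ * y⁻¹) * (y * y) := by rw [hy]; group
        _ = x * (y * y) := by rw [h3]
    refine isConj_iff.mpr ⟨⟨_, hym⟩, Subtype.ext ?_⟩
    show y ^ (2 * j + 1) * x * (y ^ (2 * j + 1))⁻¹ = x⁻¹
    rw [pow_succ', pow_mul, pow_two, show y * (y * y) ^ j * x * (y * (y * y) ^ j)⁻¹ =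
      y * ((y * y) ^ j * x * ((y * y) ^ j)⁻¹) * y⁻¹ by group, (h2.pow_left j).eq, mul_inv_cancel_right,
      hy]
  obtain ⟨o, ho⟩ := hbij.2 (Quotient.mk'' ⟨ConjClasses.mk ⟨x, hxK⟩, fun y hy => by
    have h2 := ConjClasses.mk_eq_mk_iff_isConj.mp hy
    exact h2.trans (hxr.trans (isConj_inv h2.symm))⟩)
  obtain ⟨g, hg⟩ := Quotient.exact' ho
  have h1 : IsConj (ψK g ⟨x, hxK⟩) (c o : K) :=
    ConjClasses.mk_eq_mk_iff_isConj.mp (congrArg Subtype.val hg)
  have h2 : IsConj ((ψK g ⟨x, hxK⟩ : K) : G) ((c o : K) : G) := K.subtype.map_isConj h1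
  refine ⟨((c o : K) : G), Subgroup.mem_normalizer_iff.mpr fun t => ?_,
    IsConj.trans (isConj_iff.mpr ⟨g, (MulAut.conjNormal_apply g (⟨x, hxK⟩ : K)).symm⟩) h2⟩
  have hcomm : ∀ s ∈ (P : Subgroup G), ((c o : K) : G) * s * ((c o : K) : G)⁻¹ = s := fun s hs => by
    have h3 : ((MulAut.conjNormal s (c o : K) : K) : G) = (c o : K) :=
      congrArg Subtype.val ((c o).2 ⟨s, hs⟩)
    rw [MulAut.conjNormal_apply, mul_inv_eq_iff_eq_mul] at h3
    rw [← h3, mul_inv_cancel_right]
  refine ⟨fun ht => (hcomm t ht).symm ▸ ht, fun ht => ?_⟩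
  have h4 := hcomm _ ht
  rw [mul_left_inj, mul_right_inj] at h4
  exact h4 ▸ ht

/-- Every real element normalizes a conjugate of `P`. -/
theorem exists_normalizing_conj {G : Type u} [Group G] [Finite G] (hyp : Hyp p G) (P : Sylow p G)
    {x : G} (hx : IsConj x x⁻¹) :
    ∃ y ∈ Subgroup.normalizer ((P : Subgroup G) : Set G), IsConj x y := by
  haveI : (pCore p G).Normal := PReduced.pCore_normal p G
  set f := QuotientGroup.mk' (pCore p G) with hf
  have hs : Function.Surjective f := QuotientGroup.mk'_surjective _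
  have hx' : IsConj (f x) (f x)⁻¹ := map_inv f x ▸ f.map_isConj hx
  obtain ⟨yb, hyb, hxy⟩ := exists_commuting_conj (hyp.quotient (pCore p G))
    (Cores.pCore_quotient_self p G) (P.mapSurjective hs) hx'
  obtain ⟨cb, hcb⟩ := isConj_iff.mp hxy
  obtain ⟨c, rfl⟩ := hs cb
  refine ⟨c * x * c⁻¹, ?_, isConj_iff.mpr ⟨c, rfl⟩⟩
  have hPc : ((P : Subgroup G).map f).comap f = (P : Subgroup G) := Subgroup.comap_map_eq_self (by
    rw [hf, QuotientGroup.ker_mk']; exact PReduced.pCore_le_sylow P)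
  have hfy : f (c * x * c⁻¹) ∈ Subgroup.normalizer (((P : Subgroup G).map f : Subgroup (G ⧸ pCore p G)) : Set _) := by
    rw [map_mul, map_mul, map_inv, hcb]
    exact hyb
  rw [Subgroup.mem_normalizer_iff]
  intro t
  have h := Subgroup.mem_normalizer_iff.mp hfy (f t)
  rw [← map_inv, ← map_mul, ← map_mul, ← Subgroup.mem_comap, ← Subgroup.mem_comap, hPc] at h
  exact h

end Cfsg.Agent.RealDeg
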